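import Mathlib
import Groth.Prelude.Def_RootCh2

/-!
# RootCh basics: negation of indices, fundamental weights as dual bases, positivity
-/

set_option autoImplicit false
set_option linter.unusedSectionVars false
set_option linter.unusedSimpArgs false

noncomputable section

open Module
open scoped Classical

namespace Groth.Agent.H71.RC

universe u v w x

variable {ι : Type u} {R : Type v} {M : Type w} {N : Type x}

section General

variable [CommRing R] [AddCommGroup M] [Module R M] [AddCommGroup N] [Module R N]
variable (P : RootPairing ι R M N)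

/-- index of the negative root -/
def ng (i : ι) : ι := P.reflectionPerm i i

@[simp] lemma root_ng (i : ι) : P.root (ng P i) = - P.root i := by
  unfold ng
  rw [P.root_reflectionPerm, P.reflection_apply_self]

@[simp] lemma coroot_ng (i : ι) : P.coroot (ng P i) = - P.coroot i := by
  unfold ng
  rw [P.coroot_reflectionPerm, P.coreflection_apply_self]

@[simp] lemma ng_ng (i : ι) : ng P (ng P i) = i := by
  apply P.root.injective
  simp

lemma ng_flip (i : ι) : ng P.flip i = ng P i := rfl

@[simp] lemma coroot'_ng (i : ι) (ξ : M) : P.coroot' (ng P i) ξ = - P.coroot' i ξ := by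
  simp [RootPairing.coroot']

@[simp] lemma root'_ng (i : ι) (y : N) : P.root' (ng P i) y = - P.root' i y := by
  simp [RootPairing.root']

end General


section Weights

variable [Field R] [AddCommGroup M] [Module R M] [AddCommGroup N] [Module R N]
variable {P : RootPairing ι R M N} [P.IsRootSystem]

open RootCh

lemma coroot'_fundWeight (b : P.Base) (i j : b.support) :
    P.coroot' j (fundWeight b i) = if j = i then 1 else 0 := by
  split_ifs with h
  · subst h; exact coroot'_fundWeight_self b j
  · exact coroot'_fundWeight_of_ne b i j h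

lemma root'_fundCoweight (b : P.Base) (i j : b.support) :
    P.root' j (fundCoweight b i) = if j = i then 1 else 0 :=
  coroot'_fundWeight (P := P.flip) b.flip i j

lemma pairing_fundWeight_coroot (b : P.Base) (i j : b.support) :
    P.toLinearMap (fundWeight b i) (P.coroot j) = if j = i then 1 else 0 :=
  coroot'_fundWeight b i j

lemma pairing_root_fundCoweight (b : P.Base) (i j : b.support) :
    P.toLinearMap (P.root j) (fundCoweight b i) = if j = i then 1 else 0 :=
  root'_fundCoweight b i j

/-- two vectors of `M` with the same pairings against the simple coroots are equal -/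
lemma ext_of_coroot' (b : P.Base) {ξ ξ' : M}
    (h : ∀ i : b.support, P.coroot' i ξ = P.coroot' i ξ') : ξ = ξ' := by
  have hinj : Function.Injective P.toLinearMap := P.toPerfPair.injective
  apply hinj
  apply b.toCoweightBasis.ext
  intro i
  rw [b.toCoweightBasis_apply]
  exact h i

lemma ext_of_root' (b : P.Base) {y y' : N}
    (h : ∀ i : b.support, P.root' i y = P.root' i y') : y = y' :=
  ext_of_coroot' (P := P.flip) b.flip h

lemma eq_sum_coroot'_smul_fundWeight (b : P.Base) (ξ : M) :
    ξ = ∑ i : b.support, P.coroot' i ξ • fundWeight b i := by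
  apply ext_of_coroot' b
  intro j
  rw [map_sum]
  simp only [map_smul, smul_eq_mul, coroot'_fundWeight]
  simp

lemma eq_sum_root'_smul_fundCoweight (b : P.Base) (y : N) :
    y = ∑ i : b.support, P.root' i y • fundCoweight b i :=
  eq_sum_coroot'_smul_fundWeight (P := P.flip) b.flip y

lemma eq_sum_pairing_fundCoweight_smul_root (b : P.Base) (ξ : M) :
    ξ = ∑ i : b.support, P.toLinearMap ξ (fundCoweight b i) • P.root i := by
  have h := b.toWeightBasis.sum_repr ξ
  have key : ∀ j : b.support, P.toLinearMap ξ (fundCoweight b j) = b.toWeightBasis.repr ξ j := by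
    intro j
    conv_lhs => rw [← h]
    rw [map_sum, LinearMap.sum_apply]
    simp only [map_smul, LinearMap.smul_apply, smul_eq_mul, b.toWeightBasis_apply]
    have : ∀ i : b.support, P.toLinearMap (P.root i) (fundCoweight b j) = if i = j then 1 else 0 :=
      fun i => root'_fundCoweight b j i
    simp [this]
  conv_lhs => rw [← h]
  refine Finset.sum_congr rfl fun i _ => ?_
  rw [key, b.toWeightBasis_apply]

lemma eq_sum_pairing_fundWeight_smul_coroot (b : P.Base) (y : N) :
    y = ∑ i : b.support, P.toLinearMap (fundWeight b i) y • P.coroot i :=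
  eq_sum_pairing_fundCoweight_smul_root (P := P.flip) b.flip y

end Weights

section Ordered

variable [Field R] [LinearOrder R] [IsStrictOrderedRing R]
variable [AddCommGroup M] [Module R M] [AddCommGroup N] [Module R N]
variable {P : RootPairing ι R M N} [P.IsRootSystem]

open RootCh

set_option linter.unusedSectionVars false

/-- sum of the fundamental coweights -/
def rhoCheck (b : P.Base) : N := ∑ i : b.support, fundCoweight b i

/-- sum of the fundamental weights -/
def rho (b : P.Base) : M := ∑ i : b.support, fundWeight b i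

lemma root'_rhoCheck_of_mem (b : P.Base) (j : b.support) : P.root' j (rhoCheck b) = 1 := by
  unfold rhoCheck
  rw [map_sum]
  simp [pairing_root_fundCoweight]

lemma coroot'_rho_of_mem (b : P.Base) (j : b.support) : P.coroot' j (rho b) = 1 := by
  unfold rho
  rw [map_sum]
  simp [pairing_fundWeight_coroot]

lemma height_eq (b : P.Base) (i : ι) : (b.height i : R) = P.root' i (rhoCheck b) := by
  obtain ⟨f, hf0, -, hf⟩ := b.exists_root_eq_sum_int i
  rw [RootPairing.Base.height_eq_sum hf]
  unfold RootPairing.root'
  rw [hf, map_sum, LinearMap.sum_apply]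
  push_cast
  refine Finset.sum_congr rfl fun j hj => ?_
  rw [map_zsmul, LinearMap.smul_apply]
  have := root'_rhoCheck_of_mem b ⟨j, hj⟩
  simp only [RootPairing.root'] at this
  rw [this]
  simp

lemma isPos_iff_root'_rhoCheck (b : P.Base) (i : ι) : b.IsPos i ↔ 0 < P.root' i (rhoCheck b) := by
  rw [← height_eq, RootPairing.Base.isPos_iff]
  simp

end Ordered

section Ordered2

variable [Field R] [LinearOrder R] [IsStrictOrderedRing R]
variable [AddCommGroup M] [Module R M] [AddCommGroup N] [Module R N]
variable {P : RootPairing ι R M N} [P.IsRootSystem]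

open RootCh

variable [Finite ι] [P.IsCrystallographic] [P.IsReduced]


lemma isPos_ng_iff (b : P.Base) (i : ι) : b.IsPos (ng P i) ↔ ¬ b.IsPos i :=
  RootPairing.Base.IsPos.neg_iff_not b i

lemma isPos_reflectionPerm_iff (b : P.Base) {i j : ι} (hj : j ∈ b.support) (hij : i ≠ j)
    (hij' : i ≠ ng P j) :
    b.IsPos (P.reflectionPerm j i) ↔ b.IsPos i := by
  constructor
  · intro h
    have hne : P.reflectionPerm j i ≠ j := by
      intro h2
      apply hij'
      have := congrArg (P.reflectionPerm j) h2
      rw [P.reflectionPerm_self] at this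
      exact this
    have := h.reflectionPerm hj hne
    rwa [P.reflectionPerm_self] at this
  · intro h
    exact h.reflectionPerm hj hij

lemma flip_isPos_iff (b : P.Base) (i : ι) : b.flip.IsPos i ↔ b.IsPos i := by
  refine b.induction_reflect i (p := fun i => b.flip.IsPos i ↔ b.IsPos i) ?_ ?_ ?_
  · intro i hi
    have h1 := isPos_ng_iff b i
    have h2 := isPos_ng_iff (P := P.flip) b.flip i
    rw [ng_flip] at h2
    unfold ng at h1 h2
    rw [h1, h2, hi]
  · intro i hi
    exact ⟨fun _ => b.isPos_of_mem_support hi, fun _ => b.flip.isPos_of_mem_support hi⟩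
  · intro i j hi hj
    by_cases hij : i = j
    · subst hij
      have h1 := isPos_ng_iff b i
      have h2 := isPos_ng_iff (P := P.flip) b.flip i
      rw [ng_flip] at h2
      unfold ng at h1 h2
      rw [h1, h2, hi]
    by_cases hij' : i = ng P j
    · subst hij'
      have : P.reflectionPerm j (ng P j) = j := by
        unfold ng; exact P.reflectionPerm_self j j
      rw [this]
      exact ⟨fun _ => b.isPos_of_mem_support hj, fun _ => b.flip.isPos_of_mem_support hj⟩
    rw [isPos_reflectionPerm_iff b hj hij hij']
    have := isPos_reflectionPerm_iff (P := P.flip) b.flip (i := i) (j := j) hj hij hij'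
    rw [RootPairing.flip_reflectionPerm] at this
    rw [this, hi]

lemma exists_nat_root_of_isPos (b : P.Base) {i : ι} (h : b.IsPos i) :
    ∃ f : ι → ℕ, f.support ⊆ b.support ∧ P.root i = ∑ j ∈ b.support, f j • P.root j := by
  obtain ⟨f, hf, hf' | hf'⟩ := b.exists_root_eq_sum_nat_or_neg i
  · exact ⟨f, hf, hf'⟩
  · exfalso
    have h2 : P.root i = ∑ j ∈ b.support, (fun j => -(f j : ℤ)) j • P.root j := by
      rw [hf', ← Finset.sum_neg_distrib]
      refine Finset.sum_congr rfl fun j _ => ?_
      simp
    have h3 := RootPairing.Base.height_eq_sum h2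
    rw [RootPairing.Base.isPos_iff, h3] at h
    have : ∑ j ∈ b.support, -(f j : ℤ) ≤ 0 :=
      Finset.sum_nonpos fun j _ => by simp
    omega

lemma exists_nat_coroot_of_isPos (b : P.Base) {i : ι} (h : b.IsPos i) :
    ∃ f : ι → ℕ, f.support ⊆ b.support ∧ P.coroot i = ∑ j ∈ b.support, f j • P.coroot j :=
  exists_nat_root_of_isPos (P := P.flip) b.flip ((flip_isPos_iff b i).2 h)

/-- vectors in the closed chamber pair non-negatively with positive coroots -/
lemma coroot'_nonneg_of_isPos (b : P.Base) {ξ : M} (hξ : ξ ∈ closedChamber b) {i : ι}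
    (h : b.IsPos i) : 0 ≤ P.coroot' i ξ := by
  obtain ⟨f, -, hf⟩ := exists_nat_coroot_of_isPos b h
  unfold RootPairing.coroot'
  rw [hf, map_sum, LinearMap.sum_apply]
  refine Finset.sum_nonneg fun j hj => ?_
  rw [map_nsmul, LinearMap.smul_apply]
  exact nsmul_nonneg (hξ j hj) _

/-- vectors in the open chamber pair positively with positive coroots -/
lemma coroot'_pos_of_isPos (b : P.Base) {ξ : M} (hξ : ξ ∈ openChamber b) {i : ι}
    (h : b.IsPos i) : 0 < P.coroot' i ξ := by
  obtain ⟨f, hf0, hf⟩ := exists_nat_coroot_of_isPos b h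
  have hne : ∃ j ∈ b.support, f j ≠ 0 := by
    by_contra hcon
    push Not at hcon
    have : P.coroot i = 0 := by
      rw [hf]
      exact Finset.sum_eq_zero fun j hj => by rw [hcon j hj, zero_smul]
    exact P.ne_zero' i this
  obtain ⟨j₀, hj₀, hfj₀⟩ := hne
  unfold RootPairing.coroot'
  rw [hf, map_sum, LinearMap.sum_apply]
  refine Finset.sum_pos' (fun j hj => ?_) ⟨j₀, hj₀, ?_⟩
  · rw [map_nsmul, LinearMap.smul_apply]
    exact nsmul_nonneg (hξ j hj).le _
  · rw [map_nsmul, LinearMap.smul_apply]
    exact nsmul_pos (hξ j₀ hj₀) hfj₀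

lemma openChamber_subset_closedChamber (b : P.Base) : openChamber b ⊆ closedChamber b :=
  fun _ hξ i hi => (hξ i hi).le

lemma rho_mem_openChamber (b : P.Base) : rho b ∈ openChamber b := by
  intro i hi
  rw [coroot'_rho_of_mem b ⟨i, hi⟩]
  exact one_pos

lemma fundWeight_mem_closedChamber (b : P.Base) (i : b.support) :
    fundWeight b i ∈ closedChamber b := by
  intro j hj
  rw [coroot'_fundWeight b i ⟨j, hj⟩]
  split_ifs <;> simp

/-- sign of a coroot on the open chamber -/
lemma sign_coroot'_of_mem_openChamber (b : P.Base) {ξ : M} (hξ : ξ ∈ openChamber b) (i : ι) :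
    SignType.sign (P.coroot' i ξ) = if b.IsPos i then 1 else -1 := by
  split_ifs with h
  · exact sign_pos (coroot'_pos_of_isPos b hξ h)
  · have h' : b.IsPos (ng P i) := (isPos_ng_iff b i).2 h
    have := coroot'_pos_of_isPos b hξ h'
    rw [coroot'_ng] at this
    exact sign_neg (by linarith)

lemma isPos_iff_coroot'_pos (b : P.Base) {ξ : M} (hξ : ξ ∈ openChamber b) (i : ι) :
    b.IsPos i ↔ 0 < P.coroot' i ξ := by
  constructor
  · exact coroot'_pos_of_isPos b hξ
  · intro h
    by_contra hn
    have h' : b.IsPos (ng P i) := (isPos_ng_iff b i).2 hn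
    have := coroot'_pos_of_isPos b hξ h'
    rw [coroot'_ng] at this
    linarith

end Ordered2
end Groth.Agent.H71.RC
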