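import Groth.Agent.H71.RootCh.Facet

/-!
# RootCh: dual facets, polarization, the correspondence of fundamental weights and coweights
-/

set_option autoImplicit false
set_option linter.unusedSectionVars false
set_option linter.unusedSimpArgs false
noncomputable section
open Module
open scoped Classical
namespace Groth.Agent.H71.RC
universe u v w x
variable {ι : Type u} {R : Type v} {M : Type w} {N : Type x}

section Ordered

variable [Field R] [LinearOrder R] [IsStrictOrderedRing R]
variable [AddCommGroup M] [Module R M] [AddCommGroup N] [Module R N]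
variable {P : RootPairing ι R M N} [P.IsRootSystem]
variable [Finite ι] [P.IsCrystallographic] [P.IsReduced]

open RootCh

lemma rootForm_root_self_pos [Fintype ι] (i : ι) : 0 < P.RootForm (P.root i) (P.root i) := by
  rw [P.rootForm_root_self]
  have h : ∀ k ∈ (Finset.univ : Finset ι), 0 ≤ P.pairing i k * P.pairing i k :=
    fun k _ => mul_self_nonneg _
  refine lt_of_lt_of_le ?_ (Finset.single_le_sum h (Finset.mem_univ i))
  rw [P.pairing_same]; norm_num

lemma root'_polarization [Fintype ι] (ξ : M) (i : ι) :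
    P.root' i (P.Polarization ξ) = (P.RootForm (P.root i) (P.root i) / 2) * P.coroot' i ξ := by
  have h1 : P.root' i (P.Polarization ξ) = P.RootForm ξ (P.root i) :=
    P.toLinearMap_apply_apply_Polarization ξ (P.root i)
  have h2 := congrArg (fun n => P.toLinearMap ξ n) (P.rootForm_self_smul_coroot i)
  simp only [map_smul, smul_eq_mul, map_nsmul] at h2
  have h3 : P.toLinearMap ξ (P.Polarization (P.root i)) = P.RootForm (P.root i) ξ :=
    P.toLinearMap_apply_apply_Polarization (P.root i) ξ
  rw [h3] at h2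
  have h4 : P.RootForm (P.root i) ξ = P.RootForm ξ (P.root i) := by
    rw [P.rootForm_apply_apply, P.rootForm_apply_apply]
    exact Finset.sum_congr rfl fun _ _ => mul_comm _ _
  rw [h1, ← h4]
  have : P.coroot' i ξ = P.toLinearMap ξ (P.coroot i) := rfl
  rw [this]
  have h5 : (2 : ℕ) • P.RootForm (P.root i) ξ = 2 * P.RootForm (P.root i) ξ := by
    rw [nsmul_eq_mul]; norm_num
  rw [h5] at h2
  linarith

lemma cosgnVec_polarization [Fintype ι] (ξ : M) : cosgnVec P (P.Polarization ξ) = sgnVec P ξ := by
  funext i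
  show SignType.sign (P.root' i (P.Polarization ξ)) = SignType.sign (P.coroot' i ξ)
  rw [root'_polarization, sign_mul, sign_pos (by have := rootForm_root_self_pos (P := P) i; linarith),
    one_mul]

lemma sgnVec_flip (x : N) : sgnVec P.flip x = cosgnVec P x := rfl

/-- the facet of the dual root system with the same sign vector -/
def Facet.dual (F : Facet P) : Facet P.flip :=
  ⟨F.sgn, by
    obtain ⟨ξ, hξ⟩ := F.exists_sgnVec_eq
    have : Fintype ι := Fintype.ofFinite ι
    exact ⟨P.Polarization ξ, by rw [sgnVec_flip, cosgnVec_polarization, hξ]⟩⟩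

@[simp] lemma Facet.dual_sgn (F : Facet P) : (Facet.dual F).sgn = F.sgn := rfl

lemma Facet.dual_carrier (F : Facet P) : (Facet.dual F).carrier = F.dualCarrier := rfl

lemma Facet.dual_closure (F : Facet P) : (Facet.dual F).closure = F.dualClosure := rfl

lemma Facet.dual_corners (F : Facet P) : (Facet.dual F).corners = F.dualCorners := rfl

lemma mem_cham_iff (F : Facet P) (b : P.Base) :
    b ∈ F.cham ↔ ∀ j ∈ b.support, F.sgn j ≠ -1 := by
  obtain ⟨ξ, hξ⟩ := F.exists_sgnVec_eq
  constructor
  · intro hb j hj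
    exact sgn_ne_neg_one_of_mem_cham F hb (b.isPos_of_mem_support hj)
  · intro h
    apply mem_cham_of_mem F b (ξ := ξ) hξ
    rw [mem_closedChamber_iff_sgn, hξ]
    exact h

lemma flip_mem_cham_dual (F : Facet P) (b : P.Base) :
    b.flip ∈ (Facet.dual F).cham ↔ b ∈ F.cham := by
  rw [mem_cham_iff, mem_cham_iff]
  rfl

lemma dualCorners_eq_of_mem_cham (F : Facet P) {b : P.Base} (hb : b ∈ F.cham) :
    F.dualCorners = {y | ∃ k : b.support, F.sgn k ≠ 0 ∧ fundCoweight b k = y} := by
  rw [← Facet.dual_corners]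
  exact corners_eq_of_mem_cham (P := P.flip) (Facet.dual F) ((flip_mem_cham_dual F b).2 hb)

/-- the correspondence between fundamental weights and coweights is well defined -/
lemma fundCoweight_eq_of_fundWeight_eq (b b' : P.Base) (k : b.support) (i : b'.support)
    (h : fundWeight b k = fundWeight b' i) : fundCoweight b k = fundCoweight b' i := by
  set F := Facet.ofVec P (fundWeight b k) with hF
  have hb : b ∈ F.cham :=
    mem_cham_of_mem F b (mem_carrier_ofVec _) (fundWeight_mem_closedChamber b k)
  have hb' : b' ∈ F.cham := by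
    apply mem_cham_of_mem F b' (mem_carrier_ofVec _)
    rw [h]; exact fundWeight_mem_closedChamber b' i
  have hsgn : ∀ j : b.support, F.sgn j ≠ 0 ↔ j = k := by
    intro j
    show sgnVec P (fundWeight b k) j ≠ 0 ↔ _
    rw [sgnVec_apply, coroot'_fundWeight b k j]
    split_ifs with hjk <;> simp [hjk]
  have hsgn' : ∀ j : b'.support, F.sgn j ≠ 0 ↔ j = i := by
    intro j
    show sgnVec P (fundWeight b k) j ≠ 0 ↔ _
    rw [h, sgnVec_apply, coroot'_fundWeight b' i j]
    split_ifs with hjk <;> simp [hjk]
  have h1 := dualCorners_eq_of_mem_cham F hb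
  have h2 := dualCorners_eq_of_mem_cham F hb'
  have hmem : fundCoweight b k ∈ F.dualCorners := by
    rw [h1]; exact ⟨k, (hsgn k).2 rfl, rfl⟩
  rw [h2] at hmem
  obtain ⟨j, hj, hj'⟩ := hmem
  rw [(hsgn' j).1 hj] at hj'
  exact hj'.symm

lemma fundWeight_eq_of_fundCoweight_eq (b b' : P.Base) (k : b.support) (i : b'.support)
    (h : fundCoweight b k = fundCoweight b' i) : fundWeight b k = fundWeight b' i :=
  fundCoweight_eq_of_fundWeight_eq (P := P.flip) b.flip b'.flip k i h

lemma corr_iff (b : P.Base) (k : b.support) (y : N) :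
    Corr P (fundWeight b k) y ↔ y = fundCoweight b k := by
  constructor
  · rintro ⟨b', i, h1, rfl⟩
    exact fundCoweight_eq_of_fundWeight_eq b' b i k h1
  · rintro rfl
    exact ⟨b, k, rfl, rfl⟩

lemma corr_iff' (b : P.Base) (k : b.support) (m : M) :
    Corr P m (fundCoweight b k) ↔ m = fundWeight b k := by
  constructor
  · rintro ⟨b', i, rfl, h2⟩
    exact fundWeight_eq_of_fundCoweight_eq b' b i k h2
  · rintro rfl
    exact ⟨b, k, rfl, rfl⟩

/-- S14231 -/
theorem dualCorners_eq_setOf_corr_corners (F : Facet P) :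
    F.dualCorners = {y : N | ∃ m ∈ F.corners, Corr P m y} := by
  obtain ⟨b, hb⟩ := Facet.cham_nonempty F
  rw [dualCorners_eq_of_mem_cham F hb, corners_eq_of_mem_cham F hb]
  ext y
  constructor
  · rintro ⟨k, hk, rfl⟩
    exact ⟨fundWeight b k, ⟨k, hk, rfl⟩, b, k, rfl, rfl⟩
  · rintro ⟨m, ⟨k, hk, rfl⟩, hc⟩
    rw [corr_iff] at hc
    exact ⟨k, hk, hc.symm⟩

lemma cosgnVec_apply (y : N) (i : ι) : cosgnVec P y i = SignType.sign (P.root' i y) := rfl

/-- membership in the dual closure through the parabolic set -/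
lemma mem_dualClosure_iff_parab (F : Facet P) (y : N) :
    y ∈ F.dualClosure ↔ ∀ i ∈ F.parab, 0 ≤ P.root' i y := by
  constructor
  · intro h i hi
    rcases h i with h1 | h1
    · rw [cosgnVec_apply, sign_eq_zero_iff] at h1
      rw [h1]
    · by_contra hn
      have : cosgnVec P y i = -1 := sign_eq_neg_one_iff.2 (not_le.1 hn)
      rw [this] at h1
      exact hi h1.symm
  · intro h i
    have hng : F.sgn (ng P i) = - F.sgn i := Facet.sgn_ng F i
    rw [cosgnVec_apply]
    rcases hs : F.sgn i with _ | _ | _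
    · -- zero
      left
      have h1 : 0 ≤ P.root' i y := h i (by show F.sgn i ≠ -1; rw [hs]; decide)
      have h2 : 0 ≤ P.root' (ng P i) y := h _ (by show F.sgn (ng P i) ≠ -1; rw [hng, hs]; decide)
      rw [root'_ng] at h2
      rw [sign_eq_zero_iff]
      linarith
    · -- neg
      have h2 : 0 ≤ P.root' (ng P i) y := h _ (by show F.sgn (ng P i) ≠ -1; rw [hng, hs]; decide)
      rw [root'_ng] at h2
      rcases (neg_nonneg.1 h2).lt_or_eq with h3 | h3
      · right; exact sign_neg h3
      · left; rw [h3]; exact sign_zero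
    · -- pos
      have h1 : 0 ≤ P.root' i y := h i (by show F.sgn i ≠ -1; rw [hs]; decide)
      rcases h1.lt_or_eq with h3 | h3
      · right; exact sign_pos h3
      · left; rw [← h3]; exact sign_zero

/-- S14234 -/
theorem corners_eq_setOf_nonneg_on_parab (F : Facet P) :
    F.corners = {m : M | m ∈ fundWeights P ∧
      ∀ y : N, Corr P m y → ∀ i ∈ F.parab, 0 ≤ P.root' i y} := by
  obtain ⟨b, hb⟩ := Facet.cham_nonempty F
  ext m
  constructor
  · intro hm
    refine ⟨hm.1, ?_⟩
    rw [corners_eq_of_mem_cham F hb] at hm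
    obtain ⟨k, hk, rfl⟩ := hm
    intro y hy
    rw [corr_iff] at hy
    subst hy
    rw [← mem_dualClosure_iff_parab]
    have : fundCoweight b k ∈ F.dualCorners := by
      rw [dualCorners_eq_of_mem_cham F hb]; exact ⟨k, hk, rfl⟩
    exact this.2
  · rintro ⟨⟨b', i, rfl⟩, h⟩
    have h1 := h (fundCoweight b' i) ⟨b', i, rfl, rfl⟩
    rw [← mem_dualClosure_iff_parab] at h1
    have h2 : fundCoweight b' i ∈ F.dualCorners := ⟨⟨b'.flip, i, rfl⟩, h1⟩
    rw [dualCorners_eq_of_mem_cham F hb] at h2
    obtain ⟨k, hk, hk'⟩ := h2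
    rw [corners_eq_of_mem_cham F hb]
    exact ⟨k, hk, fundWeight_eq_of_fundCoweight_eq b b' k i hk'⟩

end Ordered
end Groth.Agent.H71.RC
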