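import Mathlib

/-!
# Gordan's theorem (a form of Farkas' lemma) over a linearly ordered field, and separation of a
point from the convex hull of a finite family
-/

set_option autoImplicit false
set_option linter.unusedSectionVars false
set_option linter.unusedSimpArgs false

noncomputable section

open Module
open scoped Classical

namespace Groth.Agent.H71.RC

universe v w

variable {K : Type v} [Field K] [LinearOrder K] [IsStrictOrderedRing K]

lemma exists_dual_eq_one {V : Type w} [AddCommGroup V] [Module K V] {v : V} (hv : v ≠ 0) :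
    ∃ h : V →ₗ[K] K, h v = 1 := by
  have hli : LinearIndepOn K (fun _ : Unit => v) (Set.univ : Set Unit) := by
    rw [linearIndepOn_univ_iff]
    exact LinearIndependent.of_subsingleton () hv
  obtain ⟨f, hf⟩ := Module.exists_dual_forall_apply_eq_one hli
  exact ⟨f, hf () trivial⟩

/-- Gordan's theorem -/
theorem gordan : ∀ (n : ℕ) (V : Type w) [AddCommGroup V] [Module K V] (s : Fin n → V),
    (∃ f : V →ₗ[K] K, ∀ i, 0 < f (s i)) ∨
      (∃ c : Fin n → K, (∀ i, 0 ≤ c i) ∧ (∃ i, c i ≠ 0) ∧ ∑ i, c i • s i = 0) := by
  intro n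
  induction n with
  | zero =>
    intro V _ _ s
    exact Or.inl ⟨0, fun i => i.elim0⟩
  | succ n ih =>
    intro V _ _ s
    by_cases hs0 : s 0 = 0
    · right
      refine ⟨Pi.single 0 1, fun i => ?_, ⟨0, by simp⟩, ?_⟩
      · by_cases hi : i = 0
        · subst hi; simp
        · simp [hi]
      · rw [Finset.sum_eq_single_of_mem 0 (Finset.mem_univ _)]
        · simp [hs0]
        · intro j _ hj; simp [hj]
    set s' : Fin n → V := fun i => s i.succ with hs'
    set W := Submodule.span K {s 0} with hW
    rcases ih (V ⧸ W) (fun i => W.mkQ (s' i)) with ⟨g, hg⟩ | ⟨c', hc'0, hc'ne, hc'sum⟩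
    · -- perturb g ∘ π
      left
      set g₀ : V →ₗ[K] K := g.comp W.mkQ with hg₀
      have hg₀s0 : g₀ (s 0) = 0 := by
        have : W.mkQ (s 0) = 0 := by
          rw [Submodule.mkQ_apply, Submodule.Quotient.mk_eq_zero]
          exact Submodule.subset_span rfl
        rw [hg₀, LinearMap.comp_apply, this, map_zero]
      have hg₀pos : ∀ i, 0 < g₀ (s' i) := fun i => hg i
      obtain ⟨h, hh⟩ := exists_dual_eq_one (K := K) hs0
      set T := ∑ i, |h (s' i)| / g₀ (s' i) with hT
      have hTnn : ∀ i, 0 ≤ |h (s' i)| / g₀ (s' i) :=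
        fun i => div_nonneg (abs_nonneg _) (hg₀pos i).le
      have hT0 : 0 ≤ T := Finset.sum_nonneg fun i _ => hTnn i
      set ε := 1 / (1 + T) with hε
      have hεpos : 0 < ε := by positivity
      refine ⟨g₀ + ε • h, fun i => ?_⟩
      refine Fin.cases ?_ (fun i => ?_) i
      · rw [LinearMap.add_apply, LinearMap.smul_apply, hg₀s0, hh]
        simpa using hεpos
      · show 0 < (g₀ + ε • h) (s' i)
        rw [LinearMap.add_apply, LinearMap.smul_apply, smul_eq_mul]
        have h1 : |h (s' i)| / g₀ (s' i) ≤ T :=
          Finset.single_le_sum (fun j _ => hTnn j) (Finset.mem_univ i)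
        have h2 : |h (s' i)| ≤ T * g₀ (s' i) := by
          rw [div_le_iff₀ (hg₀pos i)] at h1; exact h1
        have h3 : ε * |h (s' i)| < g₀ (s' i) := by
          have : ε * |h (s' i)| ≤ ε * (T * g₀ (s' i)) :=
            mul_le_mul_of_nonneg_left h2 hεpos.le
          have h4 : ε * (T * g₀ (s' i)) < g₀ (s' i) := by
            have : ε * T < 1 := by
              rw [hε, one_div, inv_mul_lt_iff₀ (by positivity)]
              linarith
            calc ε * (T * g₀ (s' i)) = (ε * T) * g₀ (s' i) := by ring
              _ < 1 * g₀ (s' i) := mul_lt_mul_of_pos_right this (hg₀pos i)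
              _ = g₀ (s' i) := one_mul _
          linarith
        have h5 : -(ε * |h (s' i)|) ≤ ε * h (s' i) := by
          have := neg_abs_le (h (s' i))
          nlinarith
        linarith
    · -- a nonnegative relation modulo s 0
      have hmem : ∑ i, c' i • s' i ∈ W := by
        rw [← Submodule.Quotient.mk_eq_zero, ← Submodule.mkQ_apply, map_sum]
        simpa using hc'sum
      obtain ⟨a, ha⟩ := Submodule.mem_span_singleton.1 hmem
      by_cases ha0 : a ≤ 0
      · right
        refine ⟨Fin.cons (-a) c', fun i => ?_, ?_, ?_⟩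
        · refine Fin.cases ?_ (fun i => ?_) i
          · simpa using ha0
          · simpa using hc'0 i
        · obtain ⟨i, hi⟩ := hc'ne
          exact ⟨i.succ, by simpa using hi⟩
        · rw [Fin.sum_univ_succ]
          simp only [Fin.cons_zero, Fin.cons_succ]
          rw [← ha]
          simp
      · push Not at ha0
        rcases ih V s' with ⟨f, hf⟩ | ⟨c'', hc''0, hc''ne, hc''sum⟩
        · left
          refine ⟨f, fun i => ?_⟩
          refine Fin.cases ?_ (fun i => hf i) i
          have h1 : a * f (s 0) = ∑ i, c' i * f (s' i) := by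
            rw [← smul_eq_mul, ← map_smul, ha, map_sum]
            simp
          have h2 : 0 < ∑ i, c' i * f (s' i) := by
            obtain ⟨i₀, hi₀⟩ := hc'ne
            refine Finset.sum_pos' (fun i _ => mul_nonneg (hc'0 i) (hf i).le) ⟨i₀, Finset.mem_univ _, ?_⟩
            exact mul_pos (lt_of_le_of_ne (hc'0 i₀) (Ne.symm hi₀)) (hf i₀)
          rw [← h1] at h2
          exact (mul_pos_iff_of_pos_left ha0).1 h2
        · right
          refine ⟨Fin.cons 0 c'', fun i => ?_, ?_, ?_⟩
          · refine Fin.cases ?_ (fun i => ?_) i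
            · simp
            · simpa using hc''0 i
          · obtain ⟨i, hi⟩ := hc''ne
            exact ⟨i.succ, by simpa using hi⟩
          · rw [Fin.sum_univ_succ]
            simp only [Fin.cons_zero, Fin.cons_succ, zero_smul, zero_add]
            exact hc''sum

/-- a point outside the convex hull of a finite family is strictly separated from the family by a
linear functional -/
theorem exists_separating_of_notMem_convexHull {V : Type w} [AddCommGroup V] [Module K V]
    {ι' : Type*} [Finite ι'] (s : ι' → V) (y : V) (hy : y ∉ convexHull K (Set.range s)) :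
    ∃ f : V →ₗ[K] K, ∀ i, f y < f (s i) := by
  obtain ⟨n, ⟨e⟩⟩ := Finite.exists_equiv_fin ι'
  rcases gordan (K := K) n V (fun k => s (e.symm k) - y) with ⟨f, hf⟩ | ⟨c, hc0, hcne, hcsum⟩
  · refine ⟨f, fun i => ?_⟩
    have := hf (e i)
    rw [Equiv.symm_apply_apply, map_sub] at this
    linarith
  · exfalso
    apply hy
    have hpos : 0 < ∑ k, c k := by
      obtain ⟨k₀, hk₀⟩ := hcne
      exact Finset.sum_pos' (fun k _ => hc0 k) ⟨k₀, Finset.mem_univ _, lt_of_le_of_ne (hc0 k₀) (Ne.symm hk₀)⟩
    have hcm := Finset.centerMass_mem_convexHull (R := K) (s := Set.range s) Finset.univ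
      (w := c) (fun k _ => hc0 k) hpos (z := fun k => s (e.symm k)) (fun k _ => ⟨_, rfl⟩)
    have : Finset.univ.centerMass c (fun k => s (e.symm k)) = y := by
      rw [Finset.centerMass]
      have h1 : ∑ k, c k • s (e.symm k) = (∑ k, c k) • y := by
        have : ∑ k, c k • (s (e.symm k) - y) = 0 := hcsum
        simp only [smul_sub, Finset.sum_sub_distrib] at this
        rw [sub_eq_zero] at this
        rw [this, Finset.sum_smul]
      rw [h1, smul_smul, inv_mul_cancel₀ hpos.ne', one_smul]
    rwa [this] at hcm

end Groth.Agent.H71.RC
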