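import Groth.Agent.H71.RootCh.Solid
import Groth.Agent.H71.RootCh.Gordan

/-!
# RootCh: the dual solid of a facet as an intersection of hyperplanes and half-spaces
-/

set_option autoImplicit false
set_option linter.unusedSectionVars false
set_option linter.unusedSimpArgs false
noncomputable section
open Module
open scoped Classical
namespace Groth.Agent.H71.RC
universe u v w x
variable {ι : Type u} {R : Type v} {M : Type w} {N : Type x}

section Ordered

variable [Field R] [LinearOrder R] [IsStrictOrderedRing R]
variable [AddCommGroup M] [Module R M] [AddCommGroup N] [Module R N]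
variable {P : RootPairing ι R M N} [P.IsRootSystem]
variable [Finite ι] [P.IsCrystallographic] [P.IsReduced]

open RootCh

instance finite_base : Finite P.Base :=
  Finite.of_injective (fun b : P.Base => b.support) (fun _ _ h => base_ext h)

lemma convex_hyper (d : P.Base → N) (m : M) : Convex R (hyper d m) := by
  have : hyper d m = ⋂ (b : P.Base) (_ : m ∈ baseCorners b),
      {x | P.toLinearMap m x = P.toLinearMap m (d b)} := by
    ext x; simp [hyper]
  rw [this]
  exact convex_iInter₂ fun b _ => convex_hyperplane (P.toLinearMap m).isLinear _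

lemma convex_halfClosed (d : P.Base → N) (m : M) : Convex R (halfClosed d m) := by
  have : halfClosed d m = ⋂ (b : P.Base) (_ : m ∈ baseCorners b),
      {x | P.toLinearMap m (d b) ≤ P.toLinearMap m x} := by
    ext x; simp [halfClosed]
  rw [this]
  exact convex_iInter₂ fun b _ => convex_halfSpace_ge (P.toLinearMap m).isLinear _

/-- reflecting an adjacent chamber in a simple root of the Levi part gives an adjacent chamber -/
lemma reflectBase_mem_cham (F : Facet P) {b : P.Base} (hb : b ∈ F.cham) {j : ι}
    (_hj : j ∈ b.support) (hj0 : F.sgn j = 0) : reflectBase b j ∈ F.cham := by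
  obtain ⟨ξ, hξ⟩ := F.exists_sgnVec_eq
  have hξ' : ξ ∈ F.carrier := hξ
  apply mem_cham_of_mem F _ hξ'
  rw [mem_closedChamber_reflectBase]
  intro l hl
  have h0 : P.coroot' j ξ = 0 := coroot'_eq_zero_of_sgn_eq_zero F hξ' hj0
  rw [h0, mul_zero, sub_zero]
  exact hb hξ' l hl

/-- S14238 -/
theorem dualSolid_eq {d : P.Base → N} (hd : IsCCS d) (F : Facet P) :
    dualSolid d F = (⋂ m ∈ F.corners, hyper d m) ∩ ⋂ m ∈ F.corners', halfClosed d m := by
  apply Set.Subset.antisymm
  · apply convexHull_min
    · rintro _ ⟨b', hb', rfl⟩
      refine ⟨?_, ?_⟩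
      · simp only [Set.mem_iInter]
        intro m hm b hmb
        exact hd.corner_eq b' b m (corners_subset_baseCorners F hb' hm) hmb
      · simp only [Set.mem_iInter]
        intro m _ b hmb
        exact pairing_le_of_mem_baseCorners hd b hmb b'
    · apply Convex.inter
      · exact convex_iInter₂ fun m _ => convex_hyper d m
      · exact convex_iInter₂ fun m _ => convex_halfClosed d m
  · rintro y ⟨hy1, hy2⟩
    simp only [Set.mem_iInter] at hy1 hy2
    by_contra hcon
    have hrange : d '' F.cham = Set.range (fun b : F.cham => d b) := by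
      ext x; simp
    unfold dualSolid at hcon
    rw [hrange] at hcon
    obtain ⟨f, hf⟩ := exists_separating_of_notMem_convexHull (K := R) _ y hcon
    set ξ : M := P.toPerfPair.symm f with hξ
    have hξf : P.toLinearMap ξ = f := P.toLinearMap.apply_symm_toPerfPair_self f
    obtain ⟨b, hb, hdom⟩ := exists_dominant_in (P := P) F.cham (Facet.cham_nonempty F)
      {j | F.sgn j = 0} (fun b hb j hj hj0 => reflectBase_mem_cham F hb hj hj0) ξ
    have hlt := hf ⟨b, hb⟩
    simp only at hlt
    rw [← hξf] at hlt
    have hexp := eq_sum_coroot'_smul_fundWeight b ξ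
    have hge : P.toLinearMap ξ (d b) ≤ P.toLinearMap ξ y := by
      rw [hexp, map_sum, LinearMap.sum_apply, LinearMap.sum_apply]
      refine Finset.sum_le_sum fun k _ => ?_
      rw [map_smul, LinearMap.smul_apply, LinearMap.smul_apply, smul_eq_mul, smul_eq_mul]
      by_cases hk : F.sgn k = 0
      · apply mul_le_mul_of_nonneg_left _ (hdom k k.2 hk)
        have hk' : fundWeight b k ∈ F.corners' := by
          simp only [Facet.corners', Set.mem_iUnion]
          refine ⟨b, hb, ?_⟩
          rw [baseCorners_eq]; exact ⟨k, rfl⟩
        refine hy2 _ hk' b ?_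
        rw [baseCorners_eq]; exact ⟨k, rfl⟩
      · have hk' : fundWeight b k ∈ F.corners := by
          rw [corners_eq_of_mem_cham F hb]; exact ⟨k, hk, rfl⟩
        have := hy1 _ hk' b (by rw [baseCorners_eq]; exact ⟨k, rfl⟩)
        rw [this]
    linarith

end Ordered
end Groth.Agent.H71.RC
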