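import Groth.Agent.H71.RootCh.Reflect

/-!
# RootCh: facets as faces of chambers, corners
-/

set_option autoImplicit false
set_option linter.unusedSectionVars false
set_option linter.unusedSimpArgs false
noncomputable section
open Module
open scoped Classical
namespace Groth.Agent.H71.RC
universe u v w x
variable {ι : Type u} {R : Type v} {M : Type w} {N : Type x}

section Ordered

variable [Field R] [LinearOrder R] [IsStrictOrderedRing R]
variable [AddCommGroup M] [Module R M] [AddCommGroup N] [Module R N]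
variable {P : RootPairing ι R M N} [P.IsRootSystem]
variable [Finite ι] [P.IsCrystallographic] [P.IsReduced]

open RootCh

lemma st_neg_eq_zero {s : SignType} : -s = 0 ↔ s = 0 := by cases s <;> decide

lemma sgnVec_apply (ξ : M) (i : ι) : sgnVec P ξ i = SignType.sign (P.coroot' i ξ) := rfl

lemma sgnVec_ng (ξ : M) (i : ι) : sgnVec P ξ (ng P i) = - sgnVec P ξ i := by
  rw [sgnVec_apply, sgnVec_apply, coroot'_ng, Left.sign_neg]

lemma mem_closedChamber_iff_sgn (b : P.Base) (ξ : M) :
    ξ ∈ closedChamber b ↔ ∀ j ∈ b.support, sgnVec P ξ j ≠ -1 := by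
  constructor
  · intro h j hj
    rw [sgnVec_apply]
    intro h2
    have := sign_eq_neg_one_iff.1 h2
    have := h j hj
    linarith
  · intro h j hj
    by_contra hn
    exact h j hj (sign_eq_neg_one_iff.2 (not_le.1 hn))

/-- expansion of `coroot' i ξ` for a positive `i` -/
lemma coroot'_eq_sum_of_nat (b : P.Base) {i : ι} (f : ι → ℕ)
    (hf : P.coroot i = ∑ j ∈ b.support, f j • P.coroot j) (ξ : M) :
    P.coroot' i ξ = ∑ j ∈ b.support, (f j : R) * P.coroot' j ξ := by
  unfold RootPairing.coroot'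
  rw [hf, map_sum, LinearMap.sum_apply]
  refine Finset.sum_congr rfl fun j _ => ?_
  rw [map_nsmul, LinearMap.smul_apply, nsmul_eq_mul]

/-- two vectors of the closed chamber with the same signs on the simple coroots have the same sign
vector -/
lemma sgnVec_eq_of_simple (b : P.Base) {ξ ξ' : M} (hξ : ξ ∈ closedChamber b)
    (h : ∀ j ∈ b.support, sgnVec P ξ' j = sgnVec P ξ j) : sgnVec P ξ' = sgnVec P ξ := by
  have hξ' : ξ' ∈ closedChamber b := by
    rw [mem_closedChamber_iff_sgn] at hξ ⊢
    intro j hj; rw [h j hj]; exact hξ j hj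
  have key : ∀ i, b.IsPos i → sgnVec P ξ' i = sgnVec P ξ i := by
    intro i hi
    obtain ⟨f, -, hf⟩ := exists_nat_coroot_of_isPos b hi
    have e1 := coroot'_eq_sum_of_nat b f hf ξ
    have e2 := coroot'_eq_sum_of_nat b f hf ξ'
    have n1 : ∀ j ∈ b.support, 0 ≤ (f j : R) * P.coroot' j ξ :=
      fun j hj => mul_nonneg (Nat.cast_nonneg _) (hξ j hj)
    have n2 : ∀ j ∈ b.support, 0 ≤ (f j : R) * P.coroot' j ξ' :=
      fun j hj => mul_nonneg (Nat.cast_nonneg _) (hξ' j hj)
    have hz : (P.coroot' i ξ = 0) ↔ (P.coroot' i ξ' = 0) := by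
      rw [e1, e2, Finset.sum_eq_zero_iff_of_nonneg n1, Finset.sum_eq_zero_iff_of_nonneg n2]
      refine forall₂_congr fun j hj => ?_
      rw [mul_eq_zero, mul_eq_zero]
      have := h j hj
      rw [sgnVec_apply, sgnVec_apply] at this
      have h0 : P.coroot' j ξ = 0 ↔ P.coroot' j ξ' = 0 := by
        rw [← sign_eq_zero_iff, ← sign_eq_zero_iff (a := P.coroot' j ξ'), this]
      rw [h0]
    have p1 := coroot'_nonneg_of_isPos b hξ hi
    have p2 := coroot'_nonneg_of_isPos b hξ' hi
    rw [sgnVec_apply, sgnVec_apply]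
    rcases p1.lt_or_eq with h1 | h1
    · have h2 : 0 < P.coroot' i ξ' := by
        rcases p2.lt_or_eq with h2 | h2
        · exact h2
        · exact absurd (hz.2 h2.symm) h1.ne'
      rw [sign_pos h1, sign_pos h2]
    · rw [← h1, ← hz.1 h1.symm]
  funext i
  by_cases hi : b.IsPos i
  · exact key i hi
  · have := key _ ((isPos_ng_iff b i).2 hi)
    rw [sgnVec_ng, sgnVec_ng] at this
    exact neg_injective this

lemma Facet.sgn_ng (F : Facet P) (i : ι) : F.sgn (ng P i) = - F.sgn i := by
  obtain ⟨ξ, hξ⟩ := F.exists_sgnVec_eq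
  rw [← hξ, sgnVec_ng]

lemma mem_cham_of_mem (F : Facet P) (b : P.Base) {ξ : M} (hξ : ξ ∈ F.carrier)
    (hb : ξ ∈ closedChamber b) : b ∈ F.cham := by
  intro ξ' hξ'
  rw [mem_closedChamber_iff_sgn] at hb ⊢
  intro j hj
  have h1 : sgnVec P ξ' = F.sgn := hξ'
  have h2 : sgnVec P ξ = F.sgn := hξ
  rw [h1, ← h2]
  exact hb j hj

lemma Facet.cham_nonempty (F : Facet P) : F.cham.Nonempty := by
  obtain ⟨ξ, hξ⟩ := F.exists_sgnVec_eq
  obtain ⟨b, hb⟩ := exists_base_mem_closedChamber P ξ
  exact ⟨b, mem_cham_of_mem F b hξ hb⟩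

lemma mem_carrier_iff_of_mem_cham (F : Facet P) {b : P.Base} (hb : b ∈ F.cham) (ξ' : M) :
    ξ' ∈ F.carrier ↔ ∀ j ∈ b.support, sgnVec P ξ' j = F.sgn j := by
  constructor
  · intro h j _
    have h1 : sgnVec P ξ' = F.sgn := h
    rw [h1]
  · intro h
    obtain ⟨ξ, hξ⟩ := F.exists_sgnVec_eq
    have hξc : ξ ∈ closedChamber b := hb hξ
    have := sgnVec_eq_of_simple b hξc (ξ' := ξ') (fun j hj => by rw [h j hj, hξ])
    show sgnVec P ξ' = F.sgn
    rw [this, hξ]

lemma sgn_ne_neg_one_of_mem_cham (F : Facet P) {b : P.Base} (hb : b ∈ F.cham) {i : ι}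
    (hi : b.IsPos i) : F.sgn i ≠ -1 := by
  obtain ⟨ξ, hξ⟩ := F.exists_sgnVec_eq
  have hξc : ξ ∈ closedChamber b := hb hξ
  have := coroot'_nonneg_of_isPos b hξc hi
  rw [← hξ, sgnVec_apply]
  intro h2
  have := sign_eq_neg_one_iff.1 h2
  linarith

lemma mem_closure_iff_of_mem_cham (F : Facet P) {b : P.Base} (hb : b ∈ F.cham) (ξ' : M) :
    ξ' ∈ F.closure ↔
      ξ' ∈ closedChamber b ∧ ∀ j ∈ b.support, F.sgn j = 0 → P.coroot' j ξ' = 0 := by
  obtain ⟨ξ, hξ⟩ := F.exists_sgnVec_eq
  have hξc : ξ ∈ closedChamber b := hb hξ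
  constructor
  · intro h
    refine ⟨?_, ?_⟩
    · rw [mem_closedChamber_iff_sgn]
      intro j hj
      rcases h j with h1 | h1
      · rw [h1]; decide
      · rw [h1]; exact sgn_ne_neg_one_of_mem_cham F hb (b.isPos_of_mem_support hj)
    · intro j _ hj0
      rcases h j with h1 | h1
      · exact sign_eq_zero_iff.1 h1
      · rw [hj0] at h1; exact sign_eq_zero_iff.1 h1
  · rintro ⟨hc, hz⟩
    have key : ∀ i, b.IsPos i → sgnVec P ξ' i = 0 ∨ sgnVec P ξ' i = F.sgn i := by
      intro i hi
      obtain ⟨f, -, hf⟩ := exists_nat_coroot_of_isPos b hi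
      have e1 := coroot'_eq_sum_of_nat b f hf ξ
      have e2 := coroot'_eq_sum_of_nat b f hf ξ'
      have n1 : ∀ j ∈ b.support, 0 ≤ (f j : R) * P.coroot' j ξ :=
        fun j hj => mul_nonneg (Nat.cast_nonneg _) (hξc j hj)
      have p1 := coroot'_nonneg_of_isPos b hξc hi
      have p2 := coroot'_nonneg_of_isPos b hc hi
      rcases p1.lt_or_eq with h1 | h1
      · rcases p2.lt_or_eq with h2 | h2
        · right
          rw [← hξ, sgnVec_apply, sgnVec_apply, sign_pos h1, sign_pos h2]
        · left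
          rw [sgnVec_apply, ← h2, sign_zero]
      · left
        rw [sgnVec_apply, sign_eq_zero_iff, e2]
        rw [e1, eq_comm, Finset.sum_eq_zero_iff_of_nonneg n1] at h1
        refine Finset.sum_eq_zero fun j hj => ?_
        have := h1 j hj
        rcases mul_eq_zero.1 this with h3 | h3
        · rw [h3, zero_mul]
        · have : F.sgn j = 0 := by rw [← hξ, sgnVec_apply, h3, sign_zero]
          rw [hz j hj this, mul_zero]
    intro i
    by_cases hi : b.IsPos i
    · exact key i hi
    · have := key _ ((isPos_ng_iff b i).2 hi)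
      rw [sgnVec_ng, Facet.sgn_ng] at this
      rcases this with h1 | h1
      · left; exact st_neg_eq_zero.1 h1
      · right; exact neg_injective h1

/-- a fundamental weight pairs integrally with every coroot -/
lemma coroot'_fundWeight_int (b : P.Base) (i : b.support) (k : ι) :
    ∃ z : ℤ, P.coroot' k (fundWeight b i) = z := by
  obtain ⟨f, -, -, hf⟩ := b.flip.exists_root_eq_sum_int k
  refine ⟨f i, ?_⟩
  have hf' : P.coroot k = ∑ j ∈ b.support, f j • P.coroot j := hf
  unfold RootPairing.coroot'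
  rw [hf', map_sum, LinearMap.sum_apply]
  rw [Finset.sum_eq_single_of_mem (i : ι) i.2]
  · rw [map_zsmul, LinearMap.smul_apply]
    have := coroot'_fundWeight_self b i
    simp only [RootPairing.coroot'] at this
    rw [this]; simp
  · intro j hj hji
    rw [map_zsmul, LinearMap.smul_apply]
    have := coroot'_fundWeight_of_ne b i ⟨j, hj⟩ (by intro h; apply hji; rw [← h])
    simp only [RootPairing.coroot'] at this
    rw [this]; simp

lemma fundWeight_ne_zero (b : P.Base) (i : b.support) : fundWeight b i ≠ 0 := by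
  intro h
  have := coroot'_fundWeight_self b i
  rw [h, map_zero] at this
  exact zero_ne_one this

lemma mem_carrier_ofVec (ξ : M) : ξ ∈ (Facet.ofVec P ξ).carrier := rfl

/-- a fundamental weight (of any base) lying in the closed chamber of `b` is a fundamental weight
of `b` -/
lemma exists_fundWeight_eq_of_mem_closedChamber (b b' : P.Base) (i : b'.support)
    (h : fundWeight b' i ∈ closedChamber b) : ∃ k : b.support, fundWeight b k = fundWeight b' i := by
  set w := fundWeight b' i with hw
  set F := Facet.ofVec P w with hF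
  have hwF : w ∈ F.carrier := mem_carrier_ofVec w
  have hb : b ∈ F.cham := mem_cham_of_mem F b hwF h
  have hb' : b' ∈ F.cham := mem_cham_of_mem F b' hwF (fundWeight_mem_closedChamber b' i)
  -- every vector of F is a multiple of w
  have hmult : ∀ ξ' ∈ F.carrier, ξ' = P.coroot' i ξ' • w := by
    intro ξ' hξ'
    have e := eq_sum_coroot'_smul_fundWeight b' ξ'
    rw [Finset.sum_eq_single_of_mem i (Finset.mem_univ _)] at e
    · exact e
    · intro j _ hji
      have h1 : sgnVec P ξ' = sgnVec P w := hξ'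
      have h2 : sgnVec P ξ' j = sgnVec P w j := by rw [h1]
      rw [sgnVec_apply, sgnVec_apply, coroot'_fundWeight_of_ne b' i j hji, sign_zero,
        sign_eq_zero_iff] at h2
      rw [h2, zero_smul]
  have hc : ∀ k : b.support, 0 ≤ P.coroot' k w := fun k => h k k.2
  -- some coefficient is positive
  have hex : ∃ k : b.support, 0 < P.coroot' k w := by
    by_contra hcon
    push Not at hcon
    apply fundWeight_ne_zero b' i
    apply ext_of_coroot' b
    intro k
    rw [map_zero]
    exact le_antisymm (hcon k) (hc k)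
  obtain ⟨k₀, hk₀⟩ := hex
  -- for k with positive coefficient, ϖ_k is a multiple of w
  have hprop : ∀ k : b.support, 0 < P.coroot' k w → ∃ s : R, fundWeight b k = s • w := by
    intro k hk
    have hmem : w + fundWeight b k ∈ F.carrier := by
      rw [mem_carrier_iff_of_mem_cham F hb]
      intro j hj
      have : F.sgn j = sgnVec P w j := rfl
      rw [this, sgnVec_apply, sgnVec_apply, map_add, coroot'_fundWeight b k ⟨j, hj⟩]
      split_ifs with hjk
      · have : (j : ι) = k := by rw [← hjk]
        subst this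
        rw [sign_pos hk, sign_pos (by linarith)]
      · rw [add_zero]
    have := hmult _ hmem
    refine ⟨P.coroot' i (w + fundWeight b k) - 1, ?_⟩
    rw [sub_smul, one_smul, ← this]; abel
  -- uniqueness of the index with positive coefficient
  have huniq : ∀ k : b.support, k ≠ k₀ → P.coroot' k w = 0 := by
    intro k hk
    by_contra hne
    have hkpos : 0 < P.coroot' k w := lt_of_le_of_ne (hc k) (Ne.symm hne)
    obtain ⟨s, hs⟩ := hprop k₀ hk₀
    have h1 := coroot'_fundWeight_of_ne b k₀ k hk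
    rw [hs, map_smul, smul_eq_mul] at h1
    rcases mul_eq_zero.1 h1 with h2 | h2
    · apply fundWeight_ne_zero b k₀
      rw [hs, h2, zero_smul]
    · exact hne h2
  have hwk : w = P.coroot' k₀ w • fundWeight b k₀ := by
    have e := eq_sum_coroot'_smul_fundWeight b w
    rw [Finset.sum_eq_single_of_mem k₀ (Finset.mem_univ _)] at e
    · exact e
    · intro j _ hj
      rw [huniq j hj, zero_smul]
  set c := P.coroot' k₀ w with hcdef
  obtain ⟨z, hz⟩ := coroot'_fundWeight_int b' i k₀
  obtain ⟨z', hz'⟩ := coroot'_fundWeight_int b k₀ i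
  have h1 : P.coroot' i w = 1 := coroot'_fundWeight_self b' i
  have h2 : c * (z' : R) = 1 := by
    rw [← hz', ← smul_eq_mul, ← map_smul, ← hwk, h1]
  have hcz : c = z := hz
  rw [hcz] at h2
  have h3 : z * z' = 1 := by exact_mod_cast h2
  have hzpos : 0 < z := by
    have : (0 : R) < z := by rw [← hcz]; exact hk₀
    exact_mod_cast this
  have hz1 : z = 1 := by
    rcases Int.eq_one_or_neg_one_of_mul_eq_one h3 with h4 | h4
    · exact h4
    · omega
  refine ⟨k₀, ?_⟩
  rw [hwk, hcz, hz1]; simp

/-- S14227: the corners of the chamber of `b` are the fundamental weights of `b` -/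
theorem baseCorners_eq (b : P.Base) : baseCorners b = Set.range (fundWeight b) := by
  ext w
  constructor
  · rintro ⟨⟨b', i, rfl⟩, hw⟩
    obtain ⟨k, hk⟩ := exists_fundWeight_eq_of_mem_closedChamber b b' i hw
    exact ⟨k, hk⟩
  · rintro ⟨k, rfl⟩
    exact ⟨⟨b, k, rfl⟩, fundWeight_mem_closedChamber b k⟩

end Ordered
section Ordered2

variable [Field R] [LinearOrder R] [IsStrictOrderedRing R]
variable [AddCommGroup M] [Module R M] [AddCommGroup N] [Module R N]
variable {P : RootPairing ι R M N} [P.IsRootSystem]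
variable [Finite ι] [P.IsCrystallographic] [P.IsReduced]

open RootCh

lemma fundWeight_injective (b : P.Base) : Function.Injective (fundWeight b) := by
  intro i j h
  by_contra hne
  have h1 := coroot'_fundWeight_self b i
  rw [h, coroot'_fundWeight_of_ne b j i hne] at h1
  exact zero_ne_one h1

lemma linearIndependent_fundWeight (b : P.Base) : LinearIndependent R (fundWeight b) := by
  rw [Fintype.linearIndependent_iff]
  intro g hg j
  have := congrArg (P.coroot' j) hg
  rw [map_sum, map_zero] at this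
  simp only [map_smul, smul_eq_mul, coroot'_fundWeight] at this
  simpa using this

lemma sgn_eq_one_of_ne_zero (F : Facet P) {b : P.Base} (hb : b ∈ F.cham) {k : ι}
    (hk : k ∈ b.support) (h : F.sgn k ≠ 0) : F.sgn k = 1 := by
  have := sgn_ne_neg_one_of_mem_cham F hb (b.isPos_of_mem_support hk)
  revert h this
  cases F.sgn k <;> simp

/-- the corners of a facet in terms of an adjacent chamber -/
lemma corners_eq_of_mem_cham (F : Facet P) {b : P.Base} (hb : b ∈ F.cham) :
    F.corners = {w | ∃ k : b.support, F.sgn k ≠ 0 ∧ fundWeight b k = w} := by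
  ext w
  constructor
  · rintro ⟨hw1, hw2⟩
    rw [mem_closure_iff_of_mem_cham F hb] at hw2
    have : w ∈ baseCorners b := ⟨hw1, hw2.1⟩
    rw [baseCorners_eq] at this
    obtain ⟨k, rfl⟩ := this
    refine ⟨k, ?_, rfl⟩
    intro h0
    have := hw2.2 k k.2 h0
    rw [coroot'_fundWeight_self] at this
    exact one_ne_zero this
  · rintro ⟨k, hk, rfl⟩
    refine ⟨⟨b, k, rfl⟩, ?_⟩
    rw [mem_closure_iff_of_mem_cham F hb]
    refine ⟨fundWeight_mem_closedChamber b k, fun j hj hj0 => ?_⟩
    apply coroot'_fundWeight_of_ne b k ⟨j, hj⟩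
    intro h
    apply hk
    rw [← h]; exact hj0

lemma corners_subset_range (F : Facet P) {b : P.Base} (hb : b ∈ F.cham) :
    F.corners ⊆ Set.range (fundWeight b) := by
  rw [corners_eq_of_mem_cham F hb]
  rintro w ⟨k, -, rfl⟩
  exact ⟨k, rfl⟩

/-- S14228 -/
theorem linearIndepOn_corners (F : Facet P) : LinearIndepOn R (fun m : M => m) F.corners := by
  obtain ⟨b, hb⟩ := Facet.cham_nonempty F
  have h := (linearIndependent_fundWeight b).linearIndepOn_id
  exact h.mono (corners_subset_range F hb)

/-- coefficients of a vector of a facet vanish outside the corners -/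
lemma coroot'_eq_zero_of_sgn_eq_zero (F : Facet P) {ξ : M} (hξ : ξ ∈ F.carrier) {j : ι}
    (hj : F.sgn j = 0) : P.coroot' j ξ = 0 := by
  have h1 : sgnVec P ξ = F.sgn := hξ
  have : sgnVec P ξ j = 0 := by rw [h1, hj]
  exact sign_eq_zero_iff.1 this

lemma coroot'_pos_of_sgn_ne_zero (F : Facet P) {b : P.Base} (hb : b ∈ F.cham) {ξ : M}
    (hξ : ξ ∈ F.carrier) {j : ι} (hjs : j ∈ b.support) (hj : F.sgn j ≠ 0) : 0 < P.coroot' j ξ := by
  have h1 : sgnVec P ξ = F.sgn := hξ
  have : sgnVec P ξ j = 1 := by rw [h1]; exact sgn_eq_one_of_ne_zero F hb hjs hj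
  exact sign_eq_one_iff.1 this

lemma add_fundWeight_mem_carrier (F : Facet P) {b : P.Base} (hb : b ∈ F.cham) {ξ : M}
    (hξ : ξ ∈ F.carrier) (k : b.support) (hk : F.sgn k ≠ 0) : ξ + fundWeight b k ∈ F.carrier := by
  rw [mem_carrier_iff_of_mem_cham F hb]
  intro j hj
  have h1 : sgnVec P ξ = F.sgn := hξ
  rw [← h1, sgnVec_apply, sgnVec_apply, map_add, coroot'_fundWeight b k ⟨j, hj⟩]
  split_ifs with hjk
  · have : (j : ι) = k := by rw [← hjk]
    subst this
    have := coroot'_pos_of_sgn_ne_zero F hb hξ hj hk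
    rw [sign_pos this, sign_pos (by linarith)]
  · rw [add_zero]

/-- S14229 -/
theorem span_carrier_eq_span_corners (F : Facet P) :
    Submodule.span R F.carrier = Submodule.span R F.corners := by
  obtain ⟨b, hb⟩ := Facet.cham_nonempty F
  obtain ⟨ξ₀, hξ₀⟩ := F.exists_sgnVec_eq
  have hξ₀' : ξ₀ ∈ F.carrier := hξ₀
  apply le_antisymm
  · rw [Submodule.span_le]
    intro ξ hξ
    rw [eq_sum_coroot'_smul_fundWeight b ξ]
    refine Submodule.sum_mem _ fun k _ => ?_
    by_cases hk : F.sgn k = 0
    · rw [coroot'_eq_zero_of_sgn_eq_zero F hξ hk, zero_smul]; exact Submodule.zero_mem _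
    · apply Submodule.smul_mem
      apply Submodule.subset_span
      rw [corners_eq_of_mem_cham F hb]
      exact ⟨k, hk, rfl⟩
  · rw [Submodule.span_le]
    intro w hw
    rw [corners_eq_of_mem_cham F hb] at hw
    obtain ⟨k, hk, rfl⟩ := hw
    have h1 : ξ₀ + fundWeight b k ∈ Submodule.span R F.carrier :=
      Submodule.subset_span (add_fundWeight_mem_carrier F hb hξ₀' k hk)
    have h2 : ξ₀ ∈ Submodule.span R F.carrier := Submodule.subset_span hξ₀'
    have := Submodule.sub_mem _ h1 h2
    simpa using this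

end Ordered2
section Ordered3

variable [Field R] [LinearOrder R] [IsStrictOrderedRing R]
variable [AddCommGroup M] [Module R M] [AddCommGroup N] [Module R N]
variable {P : RootPairing ι R M N} [P.IsRootSystem]
variable [Finite ι] [P.IsCrystallographic] [P.IsReduced]

open RootCh

/-- the sum of the fundamental weights `ϖ_k`, `k ∈ K` -/
def faceVec (b : P.Base) (K : Set ι) : M :=
  ∑ k : b.support, (if (k : ι) ∈ K then (1 : R) else 0) • fundWeight b k

lemma coroot'_faceVec (b : P.Base) (K : Set ι) (j : b.support) :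
    P.coroot' j (faceVec b K) = if (j : ι) ∈ K then 1 else 0 := by
  unfold faceVec
  rw [map_sum]
  simp only [map_smul, smul_eq_mul, coroot'_fundWeight]
  simp

lemma faceVec_mem_closedChamber (b : P.Base) (K : Set ι) : faceVec b K ∈ closedChamber b := by
  intro j hj
  rw [coroot'_faceVec b K ⟨j, hj⟩]
  split_ifs <;> simp

/-- the face of the chamber of `b` on which exactly the simple coroots in `K` are positive -/
def face (b : P.Base) (K : Set ι) : Facet P := Facet.ofVec P (faceVec b K)

lemma mem_cham_face (b : P.Base) (K : Set ι) : b ∈ (face b K).cham :=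
  mem_cham_of_mem _ b (mem_carrier_ofVec _) (faceVec_mem_closedChamber b K)

lemma face_sgn (b : P.Base) (K : Set ι) {j : ι} (hj : j ∈ b.support) :
    (face b K).sgn j = if j ∈ K then 1 else 0 := by
  show sgnVec P (faceVec b K) j = _
  rw [sgnVec_apply, coroot'_faceVec b K ⟨j, hj⟩]
  split_ifs <;> simp

lemma corners_face (b : P.Base) (K : Set ι) :
    (face b K).corners = {w | ∃ k : b.support, (k : ι) ∈ K ∧ fundWeight b k = w} := by
  rw [corners_eq_of_mem_cham _ (mem_cham_face b K)]
  ext w
  constructor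
  · rintro ⟨k, hk, rfl⟩
    refine ⟨k, ?_, rfl⟩
    rw [face_sgn b K k.2] at hk
    by_contra h
    simp [h] at hk
  · rintro ⟨k, hk, rfl⟩
    refine ⟨k, ?_, rfl⟩
    rw [face_sgn b K k.2]
    simp [hk]

/-- every facet is a face of each adjacent chamber -/
lemma eq_face_of_mem_cham (F : Facet P) {b : P.Base} (hb : b ∈ F.cham) :
    F = face b {k | F.sgn k ≠ 0} := by
  obtain ⟨ξ, hξ⟩ := F.exists_sgnVec_eq
  have hξc : ξ ∈ closedChamber b := hb hξ
  apply Facet.ext
  have key : sgnVec P (faceVec b {k | F.sgn k ≠ 0}) = sgnVec P ξ := by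
    apply sgnVec_eq_of_simple b hξc
    intro j hj
    have := face_sgn b {k | F.sgn k ≠ 0} hj
    change sgnVec P (faceVec b {k | F.sgn k ≠ 0}) j = _ at this
    rw [this, hξ]
    split_ifs with h
    · exact (sgn_eq_one_of_ne_zero F hb hj h).symm
    · exact (not_not.1 h).symm
  show F.sgn = sgnVec P (faceVec b {k | F.sgn k ≠ 0})
  rw [key, hξ]

/-- S14232 -/
theorem exists_corners_eq_insert (F : Facet P) (m : M) (hm : m ∈ F.corners') :
    ∃ G : Facet P, G.corners = insert m F.corners := by
  simp only [Facet.corners', Set.mem_iUnion] at hm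
  obtain ⟨b, hb, hmb⟩ := hm
  rw [baseCorners_eq] at hmb
  obtain ⟨k₀, rfl⟩ := hmb
  refine ⟨face b ({k | F.sgn k ≠ 0} ∪ {(k₀ : ι)}), ?_⟩
  rw [corners_face, corners_eq_of_mem_cham F hb]
  ext w
  constructor
  · rintro ⟨k, hk, rfl⟩
    rcases hk with hk | hk
    · right; exact ⟨k, hk, rfl⟩
    · left
      have : k = k₀ := Subtype.ext hk
      rw [this]
  · rintro (rfl | ⟨k, hk, rfl⟩)
    · exact ⟨k₀, Or.inr rfl, rfl⟩
    · exact ⟨k, Or.inl hk, rfl⟩

/-- S14233 -/
theorem exists_corners_eq_diff_singleton (F : Facet P) (m : M) (hm : m ∈ F.corners) :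
    ∃ G : Facet P, G.corners = F.corners \ {m} := by
  obtain ⟨b, hb⟩ := Facet.cham_nonempty F
  rw [corners_eq_of_mem_cham F hb] at hm ⊢
  obtain ⟨k₀, hk₀, rfl⟩ := hm
  refine ⟨face b ({k | F.sgn k ≠ 0} \ {(k₀ : ι)}), ?_⟩
  rw [corners_face]
  ext w
  constructor
  · rintro ⟨k, ⟨hk1, hk2⟩, rfl⟩
    refine ⟨⟨k, hk1, rfl⟩, ?_⟩
    intro h
    apply hk2
    have := fundWeight_injective b h
    rw [this]; rfl
  · rintro ⟨⟨k, hk, rfl⟩, h2⟩
    refine ⟨k, ⟨hk, ?_⟩, rfl⟩
    intro h
    apply h2
    have : k = k₀ := Subtype.ext h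
    rw [this]; rfl

/-- S14230 -/
theorem carrier_eq_setOf_pos_comb_corners (F : Facet P) :
    F.carrier = {ξ : M | ∃ c : M →₀ R, (c.support : Set M) ⊆ F.corners ∧
      (∀ m ∈ F.corners, 0 < c m) ∧ c.sum (fun m r => r • m) = ξ} := by
  obtain ⟨b, hb⟩ := Facet.cham_nonempty F
  have hcor := corners_eq_of_mem_cham F hb
  ext ξ
  constructor
  · intro hξ
    let c₀ : b.support →₀ R := Finsupp.equivFunOnFinite.symm (fun k => P.coroot' k ξ)
    have hc₀ : ∀ k, c₀ k = P.coroot' k ξ := fun k => rfl
    refine ⟨Finsupp.mapDomain (fundWeight b) c₀, ?_, ?_, ?_⟩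
    · intro m hm
      have := Finsupp.mapDomain_support hm
      rw [Finset.mem_image] at this
      obtain ⟨k, hk, rfl⟩ := this
      rw [hcor]
      refine ⟨k, ?_, rfl⟩
      intro h0
      rw [Finsupp.mem_support_iff, hc₀, coroot'_eq_zero_of_sgn_eq_zero F hξ h0] at hk
      exact hk rfl
    · intro m hm
      rw [hcor] at hm
      obtain ⟨k, hk, rfl⟩ := hm
      rw [Finsupp.mapDomain_apply (fundWeight_injective b), hc₀]
      exact coroot'_pos_of_sgn_ne_zero F hb hξ k.2 hk
    · rw [Finsupp.sum_mapDomain_index (h := fun (m : M) (r : R) => r • m)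
        (fun _ => zero_smul R _) (fun _ _ _ => add_smul _ _ _)]
      rw [Finsupp.sum_fintype c₀ (fun a m => m • fundWeight b a) (fun _ => zero_smul R _)]
      exact (eq_sum_coroot'_smul_fundWeight b ξ).symm
  · rintro ⟨c, hsupp, hpos, rfl⟩
    rw [mem_carrier_iff_of_mem_cham F hb]
    intro j hj
    have hmem : ∀ m ∈ c.support, ∃ k : b.support, F.sgn k ≠ 0 ∧ fundWeight b k = m := by
      intro m hm
      have := hsupp hm
      rw [hcor] at this
      exact this
    have e : P.coroot' j (c.sum fun m r => r • m) = ∑ m ∈ c.support, c m * P.coroot' j m := by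
      rw [Finsupp.sum, map_sum]
      refine Finset.sum_congr rfl fun m _ => ?_
      rw [map_smul, smul_eq_mul]
    rw [sgnVec_apply, e]
    by_cases hj0 : F.sgn j = 0
    · rw [hj0, sign_eq_zero_iff]
      refine Finset.sum_eq_zero fun m hm => ?_
      obtain ⟨k, hk, rfl⟩ := hmem m hm
      rw [coroot'_fundWeight b k ⟨j, hj⟩, if_neg, mul_zero]
      intro h
      apply hk
      rw [← h]; exact hj0
    · rw [sgn_eq_one_of_ne_zero F hb hj hj0, sign_eq_one_iff]
      have hjc : fundWeight b ⟨j, hj⟩ ∈ F.corners := by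
        rw [hcor]; exact ⟨⟨j, hj⟩, hj0, rfl⟩
      rw [Finset.sum_eq_single (fundWeight b ⟨j, hj⟩)]
      · rw [coroot'_fundWeight_self b ⟨j, hj⟩, mul_one]
        exact hpos _ hjc
      · intro m hm hne
        obtain ⟨k, hk, rfl⟩ := hmem m hm
        rw [coroot'_fundWeight b k ⟨j, hj⟩, if_neg, mul_zero]
        intro h
        apply hne
        rw [h]
      · intro h
        rw [Finsupp.notMem_support_iff] at h
        rw [h, zero_mul]

end Ordered3
end Groth.Agent.H71.RC
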