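import Groth.Agent.H71.RootCh.MinNorm

set_option autoImplicit false
set_option linter.unusedSectionVars false
set_option linter.unusedSimpArgs false
noncomputable section
open Module
open scoped Classical
namespace Groth.Agent.H71.RC
universe u v w x
variable {ι : Type u} {R : Type v} {M : Type w} {N : Type x}

section Ordered

variable [Field R] [LinearOrder R] [IsStrictOrderedRing R]
variable [AddCommGroup M] [Module R M] [AddCommGroup N] [Module R N]
variable {P : RootPairing ι R M N} [P.IsRootSystem]
variable [Finite ι] [P.IsCrystallographic] [P.IsReduced]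

open RootCh

/-- support function bound: a dominant vector pairs with `d c` at most as with any point of the solid -/
lemma pairing_le_of_mem_closedChamber_of_mem_solid {d : P.Base → N} (hd : IsCCS d) {c : P.Base}
    {ξ : M} (hξ : ξ ∈ closedChamber c) {y : N} (hy : y ∈ solid d) :
    P.toLinearMap ξ (d c) ≤ P.toLinearMap ξ y := by
  have hsol := (mem_solid_iff hd y).1 hy
  have hexp := eq_sum_coroot'_smul_fundWeight c ξ
  rw [hexp, map_sum, LinearMap.sum_apply, LinearMap.sum_apply]
  refine Finset.sum_le_sum fun k _ => ?_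
  rw [map_smul, LinearMap.smul_apply, LinearMap.smul_apply, smul_eq_mul, smul_eq_mul]
  exact mul_le_mul_of_nonneg_left (hsol c _ (mem_baseCorners_fundWeight c k)) (hξ k k.2)

lemma deg_le_sum_root' {d : P.Base → N} (hd : IsCCS d) (G : Facet P) {c : P.Base}
    (hc : c ∈ G.cham) {y : N} (hy : y ∈ solid d) :
    G.deg d c ≤ ∑ i ∈ (Set.toFinite G.parab).toFinset, P.root' i y := by
  rw [deg_eq_pairing]
  have h := pairing_le_of_mem_closedChamber_of_mem_solid hd (hc (sum_root_parab_mem_carrier G)) hy
  refine h.trans (le_of_eq ?_)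
  rw [map_sum, LinearMap.sum_apply]

lemma deg_eq_sum_root' {d : P.Base → N} (F : Facet P) {b : P.Base}
    (hb : b ∈ F.cham) {y : N} (hy : y ∈ ⋂ m ∈ F.corners, hyper d m) :
    F.deg d b = ∑ i ∈ (Set.toFinite F.parab).toFinset, P.root' i y := by
  rw [deg_eq_pairing]
  rw [← pairing_eq_of_mem_span_corners_of_mem_hyper F hb hy (sum_root_parab_mem_span_corners F)]
  rw [map_sum, LinearMap.sum_apply]

lemma le_of_parab_subset {G F : Facet P} (h : G.parab ⊆ F.parab) : G ≤ F := by
  have key : ∀ i, F.sgn i = 1 → G.sgn i = 1 := by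
    intro i hi
    have h1 : ng P i ∉ F.parab := by
      intro h2
      apply h2
      rw [Facet.sgn_ng, hi]
    have h2 : ng P i ∉ G.parab := fun h3 => h1 (h h3)
    have h3 : G.sgn (ng P i) = -1 := by
      by_contra h4; exact h2 h4
    rw [Facet.sgn_ng] at h3
    have := neg_injective h3
    exact this
  intro i
  rcases hF : F.sgn i with _ | _ | _
  · left; rfl
  · right
    have h1 : F.sgn (ng P i) = 1 := by rw [Facet.sgn_ng, hF]; rfl
    have h2 := key _ h1
    rw [Facet.sgn_ng] at h2
    have : G.sgn i = -1 := by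
      rw [← neg_neg (G.sgn i), h2]
    exact this.symm
  · right
    exact (key i hF).symm

/-- S14248 -/
theorem deg_le_and_le_of_isSpecial {d : P.Base → N} (hd : IsCCS d) (F : Facet P) {b : P.Base}
    (hb : b ∈ F.cham) (hF : IsSpecial d F) :
    (∀ (G : Facet P) (c : P.Base), c ∈ G.cham → G.deg d c ≤ F.deg d b) ∧
      ∀ (G : Facet P) (c : P.Base), c ∈ G.cham → G.deg d c = F.deg d b → G ≤ F := by
  have : Fintype ι := Fintype.ofFinite ι
  obtain ⟨y₀, hy₀c, hy₀s⟩ := hF
  have hy₀sol := dualSolid_subset_solid d F hy₀s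
  have hyh : y₀ ∈ ⋂ m ∈ F.corners, hyper d m := by
    rw [dualSolid_eq hd] at hy₀s; exact hy₀s.1
  have hsgn : ∀ i, F.sgn i = SignType.sign (P.root' i y₀) := by
    intro i
    have h1 : cosgnVec P y₀ = F.sgn := hy₀c
    rw [← h1]; rfl
  have hFdeg := deg_eq_sum_root' (d := d) F hb hyh
  -- termwise comparison
  have hterm : ∀ (G : Facet P) (i : ι),
      (if i ∈ (Set.toFinite G.parab).toFinset then P.root' i y₀ else 0) ≤
        (if i ∈ (Set.toFinite F.parab).toFinset then P.root' i y₀ else 0) := by
    intro G i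
    by_cases hF' : i ∈ (Set.toFinite F.parab).toFinset
    · rw [if_pos hF']
      have h0 : 0 ≤ P.root' i y₀ := by
        rw [Set.Finite.mem_toFinset] at hF'
        have h1 : F.sgn i ≠ -1 := hF'
        rw [hsgn] at h1
        by_contra h2
        push Not at h2
        exact h1 (sign_neg h2)
      split_ifs
      · exact le_refl _
      · exact h0
    · rw [if_neg hF']
      have h0 : P.root' i y₀ < 0 := by
        rw [Set.Finite.mem_toFinset] at hF'
        have h1 : ¬ F.sgn i ≠ -1 := hF'
        push Not at h1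
        rw [hsgn] at h1
        exact sign_eq_neg_one_iff.1 h1
      split_ifs
      · exact h0.le
      · exact le_refl _
  have hsumle : ∀ G : Facet P, ∑ i ∈ (Set.toFinite G.parab).toFinset, P.root' i y₀ ≤
      ∑ i ∈ (Set.toFinite F.parab).toFinset, P.root' i y₀ := by
    intro G
    have e : ∀ A : Finset ι, ∑ i ∈ A, P.root' i y₀ = ∑ i, if i ∈ A then P.root' i y₀ else 0 := by
      intro A
      rw [Finset.sum_ite_mem, Finset.univ_inter]
    rw [e, e]
    exact Finset.sum_le_sum fun i _ => hterm G i
  refine ⟨fun G c hc => ?_, fun G c hc heq => ?_⟩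
  · rw [hFdeg]
    exact (deg_le_sum_root' hd G hc hy₀sol).trans (hsumle G)
  · apply le_of_parab_subset
    intro i hi
    by_contra hiF
    have e : ∀ A : Finset ι, ∑ i ∈ A, P.root' i y₀ = ∑ i, if i ∈ A then P.root' i y₀ else 0 := by
      intro A
      rw [Finset.sum_ite_mem, Finset.univ_inter]
    have h1 := deg_le_sum_root' hd G hc hy₀sol
    have h2 := hsumle G
    have h3 : ∑ i ∈ (Set.toFinite G.parab).toFinset, P.root' i y₀ =
        ∑ i ∈ (Set.toFinite F.parab).toFinset, P.root' i y₀ := by
      apply le_antisymm h2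
      rw [← hFdeg, ← heq]; exact h1
    rw [e, e] at h3
    have h4 := (Finset.sum_eq_sum_iff_of_le (fun i _ => hterm G i)).1 h3 i (Finset.mem_univ _)
    rw [if_pos ((Set.Finite.mem_toFinset _).2 hi), if_neg (by rw [Set.Finite.mem_toFinset]; exact hiF)] at h4
    have h0 : P.root' i y₀ < 0 := by
      have h1 : ¬ F.sgn i ≠ -1 := hiF
      push Not at h1
      rw [hsgn] at h1
      exact sign_eq_neg_one_iff.1 h1
    exact h0.ne h4

end Ordered
end Groth.Agent.H71.RC
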