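import Groth.Agent.H71.RootCh.Special

set_option autoImplicit false
set_option linter.unusedSectionVars false
set_option linter.unusedSimpArgs false
noncomputable section
open Module
open scoped Classical
namespace Groth.Agent.H71.RC
universe u v w x
variable {ι : Type u} {R : Type v} {M : Type w} {N : Type x}

section Ordered

variable [Field R] [LinearOrder R] [IsStrictOrderedRing R]
variable [AddCommGroup M] [Module R M] [AddCommGroup N] [Module R N]
variable {P : RootPairing ι R M N} [P.IsRootSystem]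
variable [Finite ι] [P.IsCrystallographic] [P.IsReduced]

open RootCh

section Form

variable (B : LinearMap.BilinForm R N) (hBs : ∀ y z : N, B y z = B z y)
  (hBp : ∀ y : N, y ≠ 0 → 0 < B y y)
  (hBi : ∀ (i : ι) (y z : N), B (P.coreflection i y) (P.coreflection i z) = B y z)

include hBi in
lemma root'_mul_form (i : ι) (x : N) :
    P.root' i x * B (P.coroot i) (P.coroot i) = 2 * B x (P.coroot i) := by
  have h := hBi i x (P.coroot i)
  rw [P.coreflection_apply_self, P.coreflection_apply, map_neg, map_sub, LinearMap.sub_apply,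
    map_smul, LinearMap.smul_apply, smul_eq_mul] at h
  linarith

/-- the vector of `M` representing `B y₀ ·` -/
def formVec (y₀ : N) : M := P.toPerfPair.symm (B y₀)

lemma pairing_formVec (y₀ x : N) : P.toLinearMap (formVec (P := P) B y₀) x = B y₀ x := by
  unfold formVec
  rw [P.toLinearMap.apply_symm_toPerfPair_self]

include hBp hBi in
lemma sgnVec_formVec (y₀ : N) : sgnVec P (formVec (P := P) B y₀) = cosgnVec P y₀ := by
  funext i
  rw [sgnVec_apply, cosgnVec_apply]
  have h1 : P.coroot' i (formVec (P := P) B y₀) = B y₀ (P.coroot i) := pairing_formVec B y₀ _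
  have h2 := root'_mul_form B hBi i y₀
  have hq : 0 < B (P.coroot i) (P.coroot i) := hBp _ (P.ne_zero' i)
  rw [h1]
  have h3 : B y₀ (P.coroot i) = (B (P.coroot i) (P.coroot i) / 2) * P.root' i y₀ := by
    field_simp
    linarith
  rw [h3, sign_mul, sign_pos (by positivity), one_mul]

include hBs hBp in
/-- first-order condition at a point of minimal norm of a convex set -/
lemma form_nonneg_of_isMin {S : Set N} (hS : Convex R S) {y₀ : N} (hy₀ : y₀ ∈ S)
    (hmin : ∀ y ∈ S, B y₀ y₀ ≤ B y y) {x : N} (hx : x ∈ S) : 0 ≤ B y₀ (x - y₀) := by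
  by_contra hneg
  push Not at hneg
  set a := B y₀ (x - y₀) with ha
  set q := B (x - y₀) (x - y₀) with hq
  have hne : x - y₀ ≠ 0 := by
    intro h
    rw [ha, h, map_zero] at hneg
    exact lt_irrefl _ hneg
  have hqpos : 0 < q := hBp _ hne
  set t := min 1 (-a / q) with ht
  have ht0 : 0 < t := lt_min one_pos (div_pos (neg_pos.2 hneg) hqpos)
  have ht1 : t ≤ 1 := min_le_left _ _
  have ht2 : t ≤ -a / q := min_le_right _ _
  have hmem : y₀ + t • (x - y₀) ∈ S := by
    have : y₀ + t • (x - y₀) = (1 - t) • y₀ + t • x := by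
      rw [smul_sub, sub_smul, one_smul]; abel
    rw [this]
    exact hS hy₀ hx (by linarith) ht0.le (by ring)
  have h1 := hmin _ hmem
  have h2 : B (y₀ + t • (x - y₀)) (y₀ + t • (x - y₀)) = B y₀ y₀ + 2 * t * a + t * t * q := by
    simp only [map_add, LinearMap.add_apply, map_smul, LinearMap.smul_apply, smul_eq_mul]
    rw [hBs (x - y₀) y₀]
    ring
  rw [h2] at h1
  have h3 : t * q ≤ -a := by
    have := (le_div_iff₀ hqpos).1 ht2
    linarith
  nlinarith

lemma convex_solid (d : P.Base → N) : Convex R (solid d) := convex_convexHull R _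

lemma dualSolid_subset_solid (d : P.Base → N) (F : Facet P) : dualSolid d F ⊆ solid d := by
  apply convexHull_mono
  rintro _ ⟨b, -, rfl⟩
  exact ⟨b, rfl⟩

lemma mem_baseCorners_fundWeight (b : P.Base) (k : b.support) : fundWeight b k ∈ baseCorners b := by
  rw [baseCorners_eq]; exact ⟨k, rfl⟩

include hBs hBp hBi in
/-- S14245 -/
theorem isSpecial_of_isMinOn_solid {d : P.Base → N} (hd : IsCCS d) (y₀ : N)
    (hy₀ : y₀ ∈ solid d) (hmin : ∀ y ∈ solid d, B y₀ y₀ ≤ B y y)
    (F : Facet P) (hF : y₀ ∈ F.dualCarrier) :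
    IsSpecial d F ∧ yLocus d F = {y₀} := by
  set ξ₀ := formVec (P := P) B y₀ with hξ₀
  have hξ₀F : ξ₀ ∈ F.carrier := by
    show sgnVec P ξ₀ = F.sgn
    rw [sgnVec_formVec B hBp hBi]; exact hF
  obtain ⟨b, hb⟩ := Facet.cham_nonempty F
  have hsol := (mem_solid_iff hd y₀).1 hy₀
  -- step 3
  have h3 : P.toLinearMap ξ₀ y₀ ≤ P.toLinearMap ξ₀ (d b) := by
    have hdb : d b ∈ solid d := subset_convexHull R _ ⟨b, rfl⟩
    have := form_nonneg_of_isMin B hBs hBp (convex_solid d) hy₀ hmin hdb
    rw [map_sub] at this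
    rw [pairing_formVec, pairing_formVec]
    linarith
  -- step 5
  have hexp := eq_sum_coroot'_smul_fundWeight b ξ₀
  have hterm : ∀ k : b.support,
      0 ≤ P.coroot' k ξ₀ * (P.toLinearMap (fundWeight b k) y₀ - P.toLinearMap (fundWeight b k) (d b)) := by
    intro k
    apply mul_nonneg (hb hξ₀F k k.2)
    have := hsol b _ (mem_baseCorners_fundWeight b k)
    linarith
  have hsum : ∑ k : b.support, P.coroot' k ξ₀ *
      (P.toLinearMap (fundWeight b k) y₀ - P.toLinearMap (fundWeight b k) (d b)) ≤ 0 := by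
    have e : ∀ z : N, P.toLinearMap ξ₀ z =
        ∑ k : b.support, P.coroot' k ξ₀ * P.toLinearMap (fundWeight b k) z := by
      intro z
      conv_lhs => rw [hexp]
      rw [map_sum, LinearMap.sum_apply]
      refine Finset.sum_congr rfl fun k _ => ?_
      rw [map_smul, LinearMap.smul_apply, smul_eq_mul]
    rw [e y₀, e (d b)] at h3
    simp only [mul_sub, Finset.sum_sub_distrib]
    linarith
  have hzero : ∀ k : b.support, P.coroot' k ξ₀ *
      (P.toLinearMap (fundWeight b k) y₀ - P.toLinearMap (fundWeight b k) (d b)) = 0 := by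
    have := (Finset.sum_eq_zero_iff_of_nonneg (fun k _ => hterm k)).1
      (le_antisymm hsum (Finset.sum_nonneg fun k _ => hterm k))
    exact fun k => this k (Finset.mem_univ _)
  have hmem : y₀ ∈ dualSolid d F := by
    rw [dualSolid_eq hd]
    refine ⟨?_, ?_⟩
    · simp only [Set.mem_iInter]
      intro m hm b' hmb'
      rw [corners_eq_of_mem_cham F hb] at hm
      obtain ⟨k, hk, rfl⟩ := hm
      have hpos := coroot'_pos_of_sgn_ne_zero F hb hξ₀F k.2 hk
      have h0 := hzero k
      rcases mul_eq_zero.1 h0 with h | h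
      · exact absurd h hpos.ne'
      · rw [sub_eq_zero] at h
        rw [h]
        exact hd.corner_eq b b' _ (mem_baseCorners_fundWeight b k) hmb'
    · simp only [Set.mem_iInter]
      intro m _ b' hmb'
      exact hsol b' m hmb'
  have hsp : IsSpecial d F := ⟨y₀, hF, hmem⟩
  refine ⟨hsp, ?_⟩
  have hy₀' := dualCarrier_inter_dualSolid_subset_yLocus hd F ⟨hF, hmem⟩
  ext y
  constructor
  · intro hy; exact yLocus_subsingleton d F hy hy₀'
  · rintro rfl; exact hy₀'

include hBs hBp hBi in
/-- S14244 -/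
theorem exists_yLocus_eq_and_isMinOn_solid_of_isSpecial {d : P.Base → N} (hd : IsCCS d)
    (F : Facet P) (hF : IsSpecial d F) :
    ∃ y₀ : N, yLocus d F = {y₀} ∧ y₀ ∈ solid d ∧
      ∀ y ∈ solid d, y ≠ y₀ → B y₀ y₀ < B y y := by
  obtain ⟨y₀, hy₀c, hy₀s⟩ := hF
  have hy₀' := dualCarrier_inter_dualSolid_subset_yLocus hd F ⟨hy₀c, hy₀s⟩
  refine ⟨y₀, ?_, dualSolid_subset_solid d F hy₀s, ?_⟩
  · ext y
    constructor
    · intro hy; exact yLocus_subsingleton d F hy hy₀'
    · rintro rfl; exact hy₀'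
  · intro y hy hne
    set ξ₀ := formVec (P := P) B y₀ with hξ₀
    have hξ₀F : ξ₀ ∈ F.carrier := by
      show sgnVec P ξ₀ = F.sgn
      rw [sgnVec_formVec B hBp hBi]; exact hy₀c
    obtain ⟨b, hb⟩ := Facet.cham_nonempty F
    have hsol := (mem_solid_iff hd y).1 hy
    have hyh : y₀ ∈ ⋂ m ∈ F.corners, hyper d m := by
      rw [dualSolid_eq hd] at hy₀s; exact hy₀s.1
    have hξspan : ξ₀ ∈ Submodule.span R F.corners := by
      rw [← span_carrier_eq_span_corners]; exact Submodule.subset_span hξ₀F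
    have h1 : P.toLinearMap ξ₀ y₀ = P.toLinearMap ξ₀ (d b) :=
      pairing_eq_of_mem_span_corners_of_mem_hyper F hb hyh hξspan
    have h2 : P.toLinearMap ξ₀ (d b) ≤ P.toLinearMap ξ₀ y := by
      have hexp := eq_sum_coroot'_smul_fundWeight b ξ₀
      rw [hexp, map_sum, LinearMap.sum_apply, LinearMap.sum_apply]
      refine Finset.sum_le_sum fun k _ => ?_
      rw [map_smul, LinearMap.smul_apply, LinearMap.smul_apply, smul_eq_mul, smul_eq_mul]
      exact mul_le_mul_of_nonneg_left (hsol b _ (mem_baseCorners_fundWeight b k)) (hb hξ₀F k k.2)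
    simp only [hξ₀, pairing_formVec] at h1 h2
    have h3 : B y₀ y₀ ≤ B y₀ y := by linarith
    have hne' : y - y₀ ≠ 0 := sub_ne_zero.2 hne
    have h4 : 0 < B (y - y₀) (y - y₀) := hBp _ hne'
    have h5 : B (y - y₀) (y - y₀) = B y y - 2 * B y₀ y + B y₀ y₀ := by
      simp only [map_sub, LinearMap.sub_apply]
      rw [hBs y y₀]; ring
    linarith

end Form

end Ordered
end Groth.Agent.H71.RC
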