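import Mathlib

/-!
# A positive definite quadratic form attains its minimum on the convex hull of a finite family,
over any linearly ordered field
-/

set_option autoImplicit false
set_option linter.unusedSectionVars false
set_option linter.unusedSimpArgs false

noncomputable section

open Module
open scoped Classical

namespace Groth.Agent.H71.RC

universe v w

variable {K : Type v} [Field K] [LinearOrder K] [IsStrictOrderedRing K]
variable {V : Type w} [AddCommGroup V] [Module K V]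

lemma mem_convexHull_range_iff {κ : Type*} [Fintype κ] (x : κ → V) (y : V) :
    y ∈ convexHull K (Set.range x) ↔
      ∃ w : κ → K, (∀ k, 0 ≤ w k) ∧ ∑ k, w k = 1 ∧ ∑ k, w k • x k = y := by
  constructor
  · intro hy
    rw [convexHull_range_eq_exists_affineCombination] at hy
    obtain ⟨s, w, hw0, hw1, rfl⟩ := hy
    refine ⟨fun k => if k ∈ s then w k else 0, ?_, ?_, ?_⟩
    · intro k
      show 0 ≤ (if k ∈ s then w k else 0)
      split_ifs with h
      · exact hw0 k h
      · exact le_refl _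
    · rw [Finset.sum_ite_mem, Finset.univ_inter]; exact hw1
    · rw [Finset.affineCombination_eq_linear_combination s x w hw1]
      have : ∀ k, (if k ∈ s then w k else 0) • x k = if k ∈ s then w k • x k else 0 := by
        intro k; split_ifs <;> simp
      simp only [this]
      rw [Finset.sum_ite_mem, Finset.univ_inter]
  · rintro ⟨w, hw0, hw1, rfl⟩
    exact mem_convexHull_of_exists_fintype w x hw0 hw1 (fun k => ⟨k, rfl⟩) rfl

section Form

variable (B : LinearMap.BilinForm K V) (hBs : ∀ y z : V, B y z = B z y)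
  (hBp : ∀ y : V, y ≠ 0 → 0 < B y y)

include hBp in
lemma form_self_nonneg (y : V) : 0 ≤ B y y := by
  by_cases h : y = 0
  · rw [h, map_zero]
  · exact (hBp y h).le

include hBs hBp in
/-- Gram–Schmidt projection onto the span of a finite family -/
lemma exists_proj {κ : Type*} (v : κ → V) (T : Finset κ) :
    ∀ a : V, ∃ c : κ → K, (∀ k ∉ T, c k = 0) ∧ ∀ j ∈ T, B (a - ∑ k ∈ T, c k • v k) (v j) = 0 := by
  induction T using Finset.induction_on with
  | empty => intro a; exact ⟨0, fun _ _ => rfl, fun j hj => absurd hj (Finset.notMem_empty j)⟩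
  | insert j T hj ih =>
    intro a
    obtain ⟨c, hc0, hc⟩ := ih a
    obtain ⟨e, he0, he⟩ := ih (v j)
    obtain ⟨a', ha'⟩ : ∃ a' : V, a' = a - ∑ k ∈ T, c k • v k := ⟨_, rfl⟩
    obtain ⟨u, hu⟩ : ∃ u : V, u = v j - ∑ k ∈ T, e k • v k := ⟨_, rfl⟩
    rw [← ha'] at hc
    rw [← hu] at he
    have hvj : v j = u + ∑ k ∈ T, e k • v k := by rw [hu]; abel
    by_cases hu0 : u = 0
    · refine ⟨c, fun k hk => hc0 k (fun h => hk (Finset.mem_insert_of_mem h)), ?_⟩
      have hsum : ∑ k ∈ insert j T, c k • v k = ∑ k ∈ T, c k • v k := by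
        rw [Finset.sum_insert hj, hc0 j hj, zero_smul, zero_add]
      rw [hsum, ← ha']
      intro i hi
      rcases Finset.mem_insert.1 hi with rfl | hi
      · rw [hvj, hu0, zero_add, map_sum]
        refine Finset.sum_eq_zero fun k hk => ?_
        rw [map_smul, smul_eq_mul, hc k hk, mul_zero]
      · exact hc i hi
    · have huu : 0 < B u u := hBp u hu0
      obtain ⟨γ, hγ⟩ : ∃ γ : K, γ = B a' u / B u u := ⟨_, rfl⟩
      refine ⟨fun k => if k = j then γ else c k - γ * e k, ?_, ?_⟩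
      · intro k hk
        have hkj : k ≠ j := fun h => hk (h ▸ Finset.mem_insert_self _ _)
        have hkT : k ∉ T := fun h => hk (Finset.mem_insert_of_mem h)
        show (if k = j then γ else c k - γ * e k) = 0
        rw [if_neg hkj, hc0 k hkT, he0 k hkT]; ring
      · have hsum : a - ∑ k ∈ insert j T, (if k = j then γ else c k - γ * e k) • v k = a' - γ • u := by
          rw [Finset.sum_insert hj, if_pos rfl]
          have : ∑ k ∈ T, (if k = j then γ else c k - γ * e k) • v k =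
              ∑ k ∈ T, c k • v k - γ • ∑ k ∈ T, e k • v k := by
            rw [Finset.smul_sum, ← Finset.sum_sub_distrib]
            refine Finset.sum_congr rfl fun k hk => ?_
            have hkj : k ≠ j := fun h => hj (h ▸ hk)
            rw [if_neg hkj, sub_smul, mul_smul]
          rw [this, ha', hu, smul_sub]
          abel
        rw [hsum]
        have hT : ∀ i ∈ T, B (a' - γ • u) (v i) = 0 := by
          intro i hi
          rw [map_sub, LinearMap.sub_apply, map_smul, LinearMap.smul_apply, hc i hi, he i hi]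
          simp
        have hU : B (a' - γ • u) u = 0 := by
          rw [map_sub, LinearMap.sub_apply, map_smul, LinearMap.smul_apply, smul_eq_mul, hγ]
          field_simp
          ring
        intro i hi
        rcases Finset.mem_insert.1 hi with rfl | hi
        · rw [hvj, map_add, hU, zero_add, map_sum]
          refine Finset.sum_eq_zero fun k hk => ?_
          rw [map_smul, smul_eq_mul, hT k hk, mul_zero]
        · exact hT i hi

include hBs hBp in
lemma exists_affine_min {κ : Type*} [Fintype κ] (x : κ → V) (T : Finset κ) (hT : T.Nonempty) :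
    ∃ ν : κ → K, (∀ k ∉ T, ν k = 0) ∧ ∑ k, ν k = 1 ∧
      ∃ β : K, ∀ k ∈ T, B (∑ i, ν i • x i) (x k) = β := by
  obtain ⟨k₀, hk₀⟩ := hT
  obtain ⟨c, hc0, hc⟩ := exists_proj B hBs hBp (fun k => x k - x k₀) T (x k₀)
  have hcsum : ∑ k, c k = ∑ k ∈ T, c k := by
    symm
    apply Finset.sum_subset (Finset.subset_univ _)
    intro k _ hk; exact hc0 k hk
  have hcsum' : ∑ k, c k • x k = ∑ k ∈ T, c k • x k := by
    symm
    apply Finset.sum_subset (Finset.subset_univ _)
    intro k _ hk; rw [hc0 k hk, zero_smul]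
  obtain ⟨σ, hσ⟩ : ∃ σ : K, σ = ∑ j ∈ T, c j := ⟨_, rfl⟩
  have hp : ∑ i, ((if i = k₀ then 1 + σ else 0) - c i) • x i =
      x k₀ - ∑ k ∈ T, c k • (x k - x k₀) := by
    simp only [sub_smul, Finset.sum_sub_distrib, ite_smul, zero_smul, Finset.sum_ite_eq',
      Finset.mem_univ, if_true, smul_sub]
    rw [hcsum', ← Finset.sum_smul, ← hσ, add_smul, one_smul]
    abel
  refine ⟨fun k => (if k = k₀ then 1 + σ else 0) - c k, ?_, ?_, ?_⟩
  · intro k hk
    have hkk : k ≠ k₀ := fun h => hk (h ▸ hk₀)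
    show (if k = k₀ then 1 + σ else 0) - c k = 0
    rw [if_neg hkk, hc0 k hk, sub_zero]
  · rw [Finset.sum_sub_distrib, Finset.sum_ite_eq', if_pos (Finset.mem_univ _), hcsum, hσ]; ring
  · refine ⟨B (∑ i, ((if i = k₀ then 1 + σ else 0) - c i) • x i) (x k₀), fun k hk => ?_⟩
    have := hc k hk
    rw [← hp] at this
    simp only [map_sub] at this
    exact sub_eq_zero.1 this

lemma form_affine_min {κ : Type*} [Fintype κ] (x : κ → V) (T : Finset κ) (ν : κ → K) (β : K)
    (hβ : ∀ k ∈ T, B (∑ i, ν i • x i) (x k) = β) (μ : κ → K) (hμ0 : ∀ k ∉ T, μ k = 0)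
    (hμ1 : ∑ k, μ k = 1) : B (∑ i, ν i • x i) (∑ i, μ i • x i) = β := by
  rw [map_sum]
  have : ∀ i ∈ Finset.univ, B (∑ i, ν i • x i) (μ i • x i) = μ i * β := by
    intro i _
    rw [map_smul, smul_eq_mul]
    by_cases hi : i ∈ T
    · rw [hβ i hi]
    · rw [hμ0 i hi, zero_mul, zero_mul]
  rw [Finset.sum_congr rfl this, ← Finset.sum_mul, hμ1, one_mul]

include hBs in
lemma form_eq_add {κ : Type*} [Fintype κ] (x : κ → V) (T : Finset κ) (ν : κ → K) (β : K)
    (hβ : ∀ k ∈ T, B (∑ i, ν i • x i) (x k) = β) (hν0 : ∀ k ∉ T, ν k = 0) (hν1 : ∑ k, ν k = 1)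
    (μ : κ → K) (hμ0 : ∀ k ∉ T, μ k = 0) (hμ1 : ∑ k, μ k = 1) :
    B (∑ i, μ i • x i) (∑ i, μ i • x i) = B (∑ i, ν i • x i) (∑ i, ν i • x i) +
      B (∑ i, μ i • x i - ∑ i, ν i • x i) (∑ i, μ i • x i - ∑ i, ν i • x i) := by
  have h1 := form_affine_min B x T ν β hβ μ hμ0 hμ1
  have h2 := form_affine_min B x T ν β hβ ν hν0 hν1
  simp only [map_sub, LinearMap.sub_apply]
  rw [hBs (∑ i, μ i • x i) (∑ i, ν i • x i), h1, h2]
  ring

include hBs hBp in
theorem exists_min_form_weights {κ : Type*} [Fintype κ] [Nonempty κ] (x : κ → V) :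
    ∃ w₀ : κ → K, (∀ k, 0 ≤ w₀ k) ∧ ∑ k, w₀ k = 1 ∧
      ∀ μ : κ → K, (∀ k, 0 ≤ μ k) → ∑ k, μ k = 1 →
        B (∑ k, w₀ k • x k) (∑ k, w₀ k • x k) ≤ B (∑ k, μ k • x k) (∑ k, μ k • x k) := by
  have AM : ∀ T : Finset κ, ∃ ν : κ → K, T.Nonempty → ((∀ k ∉ T, ν k = 0) ∧ ∑ k, ν k = 1 ∧
      ∃ β : K, ∀ k ∈ T, B (∑ i, ν i • x i) (x k) = β) := by
    intro T
    by_cases hT : T.Nonempty
    · obtain ⟨ν, h⟩ := exists_affine_min B hBs hBp x T hT
      exact ⟨ν, fun _ => h⟩
    · exact ⟨0, fun h => absurd h hT⟩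
  choose ν hν using AM
  obtain ⟨Q, hQ⟩ : ∃ Q : (κ → K) → K, ∀ w, Q w = B (∑ k, w k • x k) (∑ k, w k • x k) :=
    ⟨_, fun _ => rfl⟩
  simp only [← hQ]
  obtain ⟨𝒯, h𝒯⟩ : ∃ 𝒯 : Finset (Finset κ), 𝒯 =
      Finset.univ.filter (fun T => T.Nonempty ∧ ∀ k, 0 ≤ ν T k) := ⟨_, rfl⟩
  have h𝒯ne : 𝒯.Nonempty := by
    obtain ⟨k₀⟩ := ‹Nonempty κ›
    refine ⟨{k₀}, ?_⟩
    rw [h𝒯, Finset.mem_filter]
    refine ⟨Finset.mem_univ _, Finset.singleton_nonempty _, ?_⟩
    obtain ⟨h0, h1, -⟩ := hν {k₀} (Finset.singleton_nonempty _)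
    intro k
    by_cases hk : k = k₀
    · have : ∑ k, ν {k₀} k = ν {k₀} k₀ := by
        apply Finset.sum_eq_single k₀
        · intro b _ hb; exact h0 b (by simpa using hb)
        · intro h; exact absurd (Finset.mem_univ _) h
      rw [hk, ← this, h1]; exact zero_le_one
    · rw [h0 k (by simpa using hk)]
  obtain ⟨T₀, hT₀, hmin⟩ := Finset.exists_min_image 𝒯 (fun T => Q (ν T)) h𝒯ne
  rw [h𝒯, Finset.mem_filter] at hT₀
  obtain ⟨-, hT₀ne, hT₀nn⟩ := hT₀
  refine ⟨ν T₀, hT₀nn, (hν T₀ hT₀ne).2.1, ?_⟩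
  suffices H : ∀ (n : ℕ) (μ : κ → K), (∀ k, 0 ≤ μ k) → ∑ k, μ k = 1 →
      (Finset.univ.filter (fun k => μ k ≠ 0)).card = n → Q (ν T₀) ≤ Q μ by
    intro μ h0 h1; exact H _ μ h0 h1 rfl
  intro n
  induction n using Nat.strong_induction_on with
  | _ n ih =>
    intro μ hμ0 hμ1 hcard
    obtain ⟨T, hT⟩ : ∃ T : Finset κ, T = Finset.univ.filter (fun k => μ k ≠ 0) := ⟨_, rfl⟩
    rw [← hT] at hcard
    have hTne : T.Nonempty := by
      by_contra hcon
      rw [Finset.not_nonempty_iff_eq_empty] at hcon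
      have : ∑ k, μ k = 0 := by
        apply Finset.sum_eq_zero
        intro k _
        by_contra hk
        have : k ∈ T := by rw [hT, Finset.mem_filter]; exact ⟨Finset.mem_univ _, hk⟩
        rw [hcon] at this; exact absurd this (Finset.notMem_empty _)
      rw [hμ1] at this; exact one_ne_zero this
    obtain ⟨hν0, hν1, β, hβ⟩ := hν T hTne
    have hμT : ∀ k ∉ T, μ k = 0 := by
      intro k hk
      by_contra h
      exact hk (by rw [hT, Finset.mem_filter]; exact ⟨Finset.mem_univ _, h⟩)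
    have hdecomp := form_eq_add B hBs x T (ν T) β hβ hν0 hν1 μ hμT hμ1
    have hD := form_self_nonneg B hBp (∑ k, μ k • x k - ∑ k, ν T k • x k)
    by_cases hnn : ∀ k, 0 ≤ ν T k
    · have hmem : T ∈ 𝒯 := by rw [h𝒯, Finset.mem_filter]; exact ⟨Finset.mem_univ _, hTne, hnn⟩
      have h1 := hmin T hmem
      have h2 : Q (ν T) ≤ Q μ := by
        rw [hQ, hQ, hdecomp]
        linarith
      exact h1.trans h2
    · push Not at hnn
      obtain ⟨Kneg, hKneg⟩ : ∃ Kneg : Finset κ, Kneg = T.filter (fun k => ν T k < 0) := ⟨_, rfl⟩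
      have hKne : Kneg.Nonempty := by
        obtain ⟨k, hk⟩ := hnn
        refine ⟨k, ?_⟩
        rw [hKneg, Finset.mem_filter]
        refine ⟨?_, hk⟩
        by_contra hkT
        rw [hν0 k hkT] at hk; exact lt_irrefl _ hk
      obtain ⟨k₁, hk₁, hr⟩ := Finset.exists_min_image Kneg (fun k => μ k / (μ k - ν T k)) hKne
      have hpos : ∀ k ∈ Kneg, 0 < μ k ∧ ν T k < 0 := by
        intro k hk
        rw [hKneg, Finset.mem_filter] at hk
        refine ⟨?_, hk.2⟩
        have : μ k ≠ 0 := by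
          have := hk.1; rw [hT, Finset.mem_filter] at this; exact this.2
        exact lt_of_le_of_ne (hμ0 k) (Ne.symm this)
      obtain ⟨t, ht⟩ : ∃ t : K, t = μ k₁ / (μ k₁ - ν T k₁) := ⟨_, rfl⟩
      obtain ⟨hμk₁, hνk₁⟩ := hpos k₁ hk₁
      have hden : 0 < μ k₁ - ν T k₁ := by linarith
      have ht0 : 0 < t := by rw [ht]; exact div_pos hμk₁ hden
      have ht1 : t < 1 := by rw [ht, div_lt_one hden]; linarith
      obtain ⟨μ', hμ'⟩ : ∃ μ' : κ → K, ∀ k, μ' k = (1 - t) * μ k + t * ν T k := ⟨_, fun _ => rfl⟩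
      have hμ'0 : ∀ k, 0 ≤ μ' k := by
        intro k
        rw [hμ']
        by_cases hk : ν T k < 0
        · have hkT : k ∈ T := by
            by_contra hkT
            rw [hν0 k hkT] at hk; exact lt_irrefl _ hk
          have hkK : k ∈ Kneg := by rw [hKneg, Finset.mem_filter]; exact ⟨hkT, hk⟩
          have h1 := hr k hkK
          obtain ⟨hμk, -⟩ := hpos k hkK
          have hdenk : 0 < μ k - ν T k := by linarith
          rw [← ht] at h1
          have h2 : t * (μ k - ν T k) ≤ μ k := (le_div_iff₀ hdenk).1 h1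
          nlinarith
        · push Not at hk
          have := hμ0 k
          have h1 : 0 ≤ 1 - t := by linarith
          exact add_nonneg (mul_nonneg h1 this) (mul_nonneg ht0.le hk)
      have hμ'1 : ∑ k, μ' k = 1 := by
        simp only [hμ', Finset.sum_add_distrib, ← Finset.mul_sum, hμ1, hν1]; ring
      have hμ'k₁ : μ' k₁ = 0 := by
        rw [hμ', ht]; field_simp; ring
      have hμ'T : ∀ k ∉ T, μ' k = 0 := by
        intro k hk
        rw [hμ', hμT k hk, hν0 k hk]; ring
      have hsupp : Finset.univ.filter (fun k => μ' k ≠ 0) ⊂ T := by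
        rw [Finset.ssubset_iff_of_subset]
        · refine ⟨k₁, ?_, ?_⟩
          · rw [hKneg, Finset.mem_filter] at hk₁; exact hk₁.1
          · rw [Finset.mem_filter]; push Not; intro _; exact hμ'k₁
        · intro k hk
          rw [Finset.mem_filter] at hk
          by_contra hkT
          exact hk.2 (hμ'T k hkT)
      have hlt : (Finset.univ.filter (fun k => μ' k ≠ 0)).card < n := by
        rw [← hcard]; exact Finset.card_lt_card hsupp
      have h1 := ih _ hlt μ' hμ'0 hμ'1 rfl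
      have hdecomp' := form_eq_add B hBs x T (ν T) β hβ hν0 hν1 μ' hμ'T hμ'1
      have hy : ∑ k, μ' k • x k - ∑ k, ν T k • x k =
          (1 - t) • (∑ k, μ k • x k - ∑ k, ν T k • x k) := by
        have e1 : ∑ k, μ' k • x k = (1 - t) • ∑ k, μ k • x k + t • ∑ k, ν T k • x k := by
          rw [Finset.smul_sum, Finset.smul_sum, ← Finset.sum_add_distrib]
          refine Finset.sum_congr rfl fun k _ => ?_
          rw [hμ', add_smul, mul_smul, mul_smul]
        rw [e1]
        module
      have h2 : Q μ' ≤ Q μ := by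
        rw [hQ, hQ, hdecomp', hdecomp, hy]
        simp only [map_smul, LinearMap.smul_apply, smul_eq_mul]
        have h3 : (1 - t) * (1 - t) ≤ 1 := by nlinarith
        have h4 := mul_le_mul_of_nonneg_right h3 hD
        linarith
      exact h1.trans h2

include hBs hBp in
theorem exists_min_form_on_convexHull_range {κ : Type*} [Finite κ] [Nonempty κ] (x : κ → V) :
    ∃ y₀ ∈ convexHull K (Set.range x), ∀ y ∈ convexHull K (Set.range x), B y₀ y₀ ≤ B y y := by
  have : Fintype κ := Fintype.ofFinite κ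
  obtain ⟨w₀, h0, h1, hmin⟩ := exists_min_form_weights B hBs hBp x
  refine ⟨∑ k, w₀ k • x k, (mem_convexHull_range_iff x _).2 ⟨w₀, h0, h1, rfl⟩, ?_⟩
  intro y hy
  obtain ⟨μ, hμ0, hμ1, rfl⟩ := (mem_convexHull_range_iff x y).1 hy
  exact hmin μ hμ0 hμ1

end Form

end Groth.Agent.H71.RC
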