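import Groth.Agent.H71.RootCh.Dual

/-!
# RootCh: sums of roots over parabolic and elementary sets
-/

set_option autoImplicit false
set_option linter.unusedSectionVars false
set_option linter.unusedSimpArgs false
noncomputable section
open Module
open scoped Classical
namespace Groth.Agent.H71.RC
universe u v w x
variable {ι : Type u} {R : Type v} {M : Type w} {N : Type x}

section Ordered

variable [Field R] [LinearOrder R] [IsStrictOrderedRing R]
variable [AddCommGroup M] [Module R M] [AddCommGroup N] [Module R N]
variable {P : RootPairing ι R M N} [P.IsRootSystem]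
variable [Finite ι] [P.IsCrystallographic] [P.IsReduced]

open RootCh

lemma rootForm_mul_pairing [Fintype ι] (i j : ι) :
    P.RootForm (P.root i) (P.root i) * P.pairing j i =
      P.RootForm (P.root j) (P.root j) * P.pairing i j := by
  have h1 := root'_polarization (P := P) (P.root j) i
  have h2 := root'_polarization (P := P) (P.root i) j
  have e1 : P.root' i (P.Polarization (P.root j)) = P.RootForm (P.root j) (P.root i) :=
    P.toLinearMap_apply_apply_Polarization (P.root j) (P.root i)
  have e2 : P.root' j (P.Polarization (P.root i)) = P.RootForm (P.root i) (P.root j) :=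
    P.toLinearMap_apply_apply_Polarization (P.root i) (P.root j)
  have e3 : P.RootForm (P.root i) (P.root j) = P.RootForm (P.root j) (P.root i) := by
    rw [P.rootForm_apply_apply, P.rootForm_apply_apply]
    exact Finset.sum_congr rfl fun _ _ => mul_comm _ _
  have c1 : P.coroot' i (P.root j) = P.pairing j i := P.root_coroot'_eq_pairing i j
  have c2 : P.coroot' j (P.root i) = P.pairing i j := P.root_coroot'_eq_pairing j i
  rw [e1, c1] at h1
  rw [e2, c2, e3] at h2
  linarith

lemma pairing_pos_iff (i j : ι) : 0 < P.pairing i j ↔ 0 < P.pairing j i := by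
  have : Fintype ι := Fintype.ofFinite ι
  have h := rootForm_mul_pairing (P := P) i j
  have qi := rootForm_root_self_pos (P := P) i
  have qj := rootForm_root_self_pos (P := P) j
  constructor
  · intro hp
    have : 0 < P.RootForm (P.root i) (P.root i) * P.pairing j i := by
      rw [h]; exact mul_pos qj hp
    exact (mul_pos_iff_of_pos_left qi).1 this
  · intro hp
    have : 0 < P.RootForm (P.root j) (P.root j) * P.pairing i j := by
      rw [← h]; exact mul_pos qi hp
    exact (mul_pos_iff_of_pos_left qj).1 this

lemma pairing_reflectionPerm_left (i j : ι) :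
    P.pairing (P.reflectionPerm j i) j = - P.pairing i j := by
  have h := P.root_reflectionPerm j i
  rw [P.reflection_apply_root] at h
  have := congrArg (fun m => P.toLinearMap m (P.coroot j)) h
  simp only [map_sub, map_smul, LinearMap.sub_apply, LinearMap.smul_apply, smul_eq_mul,
    P.root_coroot_eq_pairing, P.pairing_same] at this
  rw [this]; ring

lemma coroot'_reflectionPerm_apply (j i : ι) (ξ : M) :
    P.coroot' (P.reflectionPerm j i) ξ = P.coroot' i ξ - P.pairing j i * P.coroot' j ξ := by
  have h := P.coroot_reflectionPerm j i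
  rw [P.coreflection_apply_coroot] at h
  unfold RootPairing.coroot'
  rw [h]
  simp [mul_comm]

/-- pairing the sum of the roots of a finite set with a coroot: only the roots whose reflection
leaves the set contribute -/
lemma coroot'_sum_root (A : Finset ι) (j : ι) :
    P.coroot' j (∑ i ∈ A, P.root i) =
      ∑ i ∈ A.filter (fun i => P.reflectionPerm j i ∉ A), P.pairing i j := by
  rw [map_sum]
  have e : ∀ i, P.coroot' j (P.root i) = P.pairing i j := fun i => P.root_coroot'_eq_pairing j i
  simp only [e]
  rw [← Finset.sum_filter_add_sum_filter_not A (fun i => P.reflectionPerm j i ∈ A)]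
  have hz : ∑ i ∈ A.filter (fun i => P.reflectionPerm j i ∈ A), P.pairing i j = 0 := by
    apply Finset.sum_involution (fun i _ => P.reflectionPerm j i)
    · intro i _
      rw [pairing_reflectionPerm_left]; ring
    · intro i _ hne heq
      apply hne
      have := pairing_reflectionPerm_left (P := P) i j
      rw [heq] at this
      linarith
    · intro i hi
      rw [Finset.mem_filter] at hi ⊢
      refine ⟨hi.2, ?_⟩
      rw [P.reflectionPerm_self]; exact hi.1
    · intro i _
      exact P.reflectionPerm_self j i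
  rw [hz, zero_add]

lemma mem_parab_iff (F : Facet P) (i : ι) : i ∈ F.parab ↔ F.sgn i ≠ -1 := Iff.rfl

lemma sgn_eq_sign (F : Facet P) {ξ : M} (hξ : ξ ∈ F.carrier) (i : ι) :
    F.sgn i = SignType.sign (P.coroot' i ξ) := by
  have h1 : sgnVec P ξ = F.sgn := hξ
  rw [← h1]; rfl

/-- a root of the parabolic set of `F` whose reflection in the simple root `j` leaves the parabolic
set pairs positively with `j`, and `j` is then not in the Levi part -/
lemma pairing_pos_of_mem_parab_of_reflection_notMem (F : Facet P) {b : P.Base} (hb : b ∈ F.cham)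
    {j : ι} (hj : j ∈ b.support) {i : ι} (hi : i ∈ F.parab)
    (hi' : P.reflectionPerm j i ∉ F.parab) : 0 < P.pairing i j ∧ F.sgn j ≠ 0 := by
  obtain ⟨ξ, hξ⟩ := F.exists_sgnVec_eq
  have hξ' : ξ ∈ F.carrier := hξ
  have hξc : ξ ∈ closedChamber b := hb hξ'
  rw [mem_parab_iff, sgn_eq_sign F hξ'] at hi hi'
  have h1 : 0 ≤ P.coroot' i ξ := by
    by_contra hn
    exact hi (sign_eq_neg_one_iff.2 (not_le.1 hn))
  have h2 : P.coroot' (P.reflectionPerm j i) ξ < 0 := by
    by_contra hn
    apply hi'
    intro h3
    exact hn (sign_eq_neg_one_iff.1 h3)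
  rw [coroot'_reflectionPerm_apply] at h2
  have h3 : 0 ≤ P.coroot' j ξ := hξc j hj
  have h4 : 0 < P.pairing j i * P.coroot' j ξ := by linarith
  have h5 : 0 < P.coroot' j ξ := by
    rcases h3.lt_or_eq with h | h
    · exact h
    · rw [← h, mul_zero] at h4; exact absurd h4 (lt_irrefl _)
  have h6 : 0 < P.pairing j i := (mul_pos_iff_of_pos_right h5).1 h4
  refine ⟨(pairing_pos_iff j i).1 h6, ?_⟩
  rw [sgn_eq_sign F hξ', sign_pos h5]
  decide

/-- S14237 -/
theorem sum_root_parab_mem_carrier (F : Facet P) :
    (∑ i ∈ (Set.toFinite F.parab).toFinset, P.root i) ∈ F.carrier := by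
  obtain ⟨b, hb⟩ := Facet.cham_nonempty F
  rw [mem_carrier_iff_of_mem_cham F hb]
  intro j hj
  rw [sgnVec_apply, coroot'_sum_root]
  set A := (Set.toFinite F.parab).toFinset with hA
  have hmemA : ∀ i, i ∈ A ↔ i ∈ F.parab := fun i => Set.Finite.mem_toFinset _
  have hterm : ∀ i ∈ A.filter (fun i => P.reflectionPerm j i ∉ A), 0 < P.pairing i j := by
    intro i hi
    rw [Finset.mem_filter, hmemA, hmemA] at hi
    exact (pairing_pos_of_mem_parab_of_reflection_notMem F hb hj hi.1 hi.2).1
  by_cases hj0 : F.sgn j = 0
  · have hempty : A.filter (fun i => P.reflectionPerm j i ∉ A) = ∅ := by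
      rw [Finset.filter_eq_empty_iff]
      intro i hi hi'
      rw [hmemA] at hi hi'
      exact (pairing_pos_of_mem_parab_of_reflection_notMem F hb hj hi hi').2 hj0
    rw [hempty, Finset.sum_empty, sign_zero, hj0]
  · have hj1 := sgn_eq_one_of_ne_zero F hb hj hj0
    rw [hj1, sign_eq_one_iff]
    apply Finset.sum_pos hterm
    refine ⟨j, ?_⟩
    rw [Finset.mem_filter, hmemA, hmemA, mem_parab_iff, mem_parab_iff, hj1]
    refine ⟨by decide, ?_⟩
    have : P.reflectionPerm j j = ng P j := rfl
    rw [this, Facet.sgn_ng, hj1]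
    decide

lemma mem_Psi_iff (F : Facet P) {b : P.Base} (hb : b ∈ F.cham) (k : b.support) (i : ι) :
    i ∈ F.Psi (fundWeight b k) ↔ P.root' i (fundCoweight b k) = 1 ∧
      ∀ k' : b.support, F.sgn k' ≠ 0 → k' ≠ k → P.root' i (fundCoweight b k') = 0 := by
  unfold Facet.Psi
  rw [corners_eq_of_mem_cham F hb]
  constructor
  · rintro ⟨h1, h2⟩
    refine ⟨h1 _ ((corr_iff b k _).2 rfl), fun k' hk' hne => ?_⟩
    refine h2 (fundWeight b k') ⟨k', hk', rfl⟩ ?_ _ ((corr_iff b k' _).2 rfl)
    intro h
    exact hne (fundWeight_injective b h)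
  · rintro ⟨h1, h2⟩
    refine ⟨fun y hy => ?_, ?_⟩
    · rw [corr_iff] at hy; rw [hy]; exact h1
    · rintro w' ⟨k', hk', rfl⟩ hne y hy
      rw [corr_iff] at hy
      rw [hy]
      apply h2 k' hk'
      intro h
      apply hne
      rw [h]

lemma root'_reflectionPerm_apply (j i : ι) (y : N) :
    P.root' (P.reflectionPerm j i) y = P.root' i y - P.pairing i j * P.root' j y := by
  have h := P.root_reflectionPerm j i
  rw [P.reflection_apply_root] at h
  unfold RootPairing.root'
  rw [h]
  simp

/-- the simple reflections of the Levi part preserve the elementary sets of roots -/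
lemma reflectionPerm_mem_Psi (F : Facet P) {b : P.Base} (hb : b ∈ F.cham) (k : b.support)
    (hk : F.sgn k ≠ 0) {j : ι} (hj : j ∈ b.support) (hj0 : F.sgn j = 0) {i : ι}
    (hi : i ∈ F.Psi (fundWeight b k)) : P.reflectionPerm j i ∈ F.Psi (fundWeight b k) := by
  rw [mem_Psi_iff F hb] at hi ⊢
  have hz : ∀ k' : b.support, F.sgn k' ≠ 0 → P.root' j (fundCoweight b k') = 0 := by
    intro k' hk'
    rw [root'_fundCoweight b k' ⟨j, hj⟩, if_neg]
    intro h
    apply hk'
    rw [← h]; exact hj0
  refine ⟨?_, fun k' hk' hne => ?_⟩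
  · rw [root'_reflectionPerm_apply, hz k hk, hi.1]; ring
  · rw [root'_reflectionPerm_apply, hz k' hk', hi.2 k' hk' hne]; ring

/-- S14242 -/
theorem sum_root_psi_mem_span_corners (F : Facet P) (m : M) (hm : m ∈ F.corners) :
    (∑ i ∈ (Set.toFinite (F.Psi m)).toFinset, P.root i) ∈ Submodule.span R F.corners := by
  obtain ⟨b, hb⟩ := Facet.cham_nonempty F
  have hcor := corners_eq_of_mem_cham F hb
  rw [hcor] at hm
  obtain ⟨k, hk, rfl⟩ := hm
  set A := (Set.toFinite (F.Psi (fundWeight b k))).toFinset with hA
  have hmemA : ∀ i, i ∈ A ↔ i ∈ F.Psi (fundWeight b k) := fun i => Set.Finite.mem_toFinset _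
  rw [eq_sum_coroot'_smul_fundWeight b (∑ i ∈ A, P.root i)]
  refine Submodule.sum_mem _ fun j _ => ?_
  by_cases hj0 : F.sgn j = 0
  · have : P.coroot' j (∑ i ∈ A, P.root i) = 0 := by
      rw [coroot'_sum_root]
      have hempty : A.filter (fun i => P.reflectionPerm j i ∉ A) = ∅ := by
        rw [Finset.filter_eq_empty_iff]
        intro i hi hi'
        rw [hmemA] at hi hi'
        exact hi' (reflectionPerm_mem_Psi F hb k hk j.2 hj0 hi)
      rw [hempty, Finset.sum_empty]
    rw [this, zero_smul]
    exact Submodule.zero_mem _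
  · apply Submodule.smul_mem
    apply Submodule.subset_span
    rw [hcor]
    exact ⟨j, hj0, rfl⟩

end Ordered
end Groth.Agent.H71.RC
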