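import Groth.Agent.H71.RootCh.MaxDeg

set_option autoImplicit false
set_option linter.unusedSectionVars false
set_option linter.unusedSimpArgs false
noncomputable section
open Module
open scoped Classical
namespace Groth.Agent.H71.RC
universe u v w x
variable {ι : Type u} {R : Type v} {M : Type w} {N : Type x}

section Ordered

variable [Field R] [LinearOrder R] [IsStrictOrderedRing R]
variable [AddCommGroup M] [Module R M] [AddCommGroup N] [Module R N]
variable {P : RootPairing ι R M N} [P.IsRootSystem]
variable [Finite ι] [P.IsCrystallographic] [P.IsReduced]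

open RootCh

/-- the facet of `P` whose dual facet contains a given vector of `N` -/
def Facet.ofCovec (y : N) : Facet P :=
  ⟨cosgnVec P y, by
    have : Fintype ι := Fintype.ofFinite ι
    exact ⟨P.CoPolarization y, cosgnVec_polarization (P := P.flip) y⟩⟩

lemma Facet.ofCovec_sgn (y : N) : (Facet.ofCovec (P := P) y).sgn = cosgnVec P y := rfl

lemma parab_subset_of_le {F G : Facet P} (h : F ≤ G) : F.parab ⊆ G.parab := by
  intro i hi
  rw [mem_parab_iff] at hi ⊢
  rcases h i with h1 | h1
  · rw [h1]; decide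
  · rw [h1]; exact hi

lemma le_iff_parab_subset (F G : Facet P) : F ≤ G ↔ F.parab ⊆ G.parab :=
  ⟨parab_subset_of_le, le_of_parab_subset⟩

lemma eq_of_parab_eq {F G : Facet P} (h : F.parab = G.parab) : F = G :=
  le_antisymm (le_of_parab_subset h.le) (le_of_parab_subset h.ge)

/-- the parabolic set of a facet is a parabolic set of roots -/
theorem isParabolicSubset_parab (F : Facet P) : IsParabolicSubset P F.parab := by
  have : Fintype ι := Fintype.ofFinite ι
  obtain ⟨ξ, hξ⟩ := F.exists_sgnVec_eq
  have hmem : ∀ i, i ∈ F.parab ↔ 0 ≤ P.root' i (P.Polarization ξ) := by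
    intro i
    rw [mem_parab_iff, ← hξ, ← cosgnVec_polarization, cosgnVec_apply, Ne, sign_eq_neg_one_iff, not_lt]
  refine ⟨?_, ?_⟩
  · intro i j k hi hj hk
    rw [hmem] at hi hj ⊢
    have : P.root' k (P.Polarization ξ) = P.root' i (P.Polarization ξ) + P.root' j (P.Polarization ξ) := by
      unfold RootPairing.root'
      rw [hk, map_add, LinearMap.add_apply]
    rw [this]; exact add_nonneg hi hj
  · intro i
    by_cases hi : i ∈ F.parab
    · exact Or.inl hi
    · right
      rw [hmem] at hi
      show ng P i ∈ F.parab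
      rw [hmem, root'_ng]
      push Not at hi
      linarith

/-- a parabolic set contains the positive roots of some base -/
lemma exists_base_pos_subset {S : Set ι} (hS : IsParabolicSubset P S) :
    ∃ b : P.Base, ∀ i, b.IsPos i → i ∈ S := by
  have : Fintype ι := Fintype.ofFinite ι
  obtain ⟨b₀⟩ := P.nonempty_base
  have : Nonempty P.Base := ⟨b₀⟩
  obtain ⟨n, hn⟩ : ∃ n : P.Base → ℕ,
      ∀ b, n b = (Finset.univ.filter (fun i => b.IsPos i ∧ i ∈ S)).card := ⟨_, fun _ => rfl⟩
  obtain ⟨b, hb⟩ := Finite.exists_max n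
  refine ⟨b, ?_⟩
  have hsimple : ∀ j ∈ b.support, j ∈ S := by
    intro j hj
    by_contra hjS
    have hng : ng P j ∈ S := by
      rcases hS.2 j with h | h
      · exact absurd h hjS
      · exact h
    have hlt : n b < n (reflectBase b j) := by
      rw [hn, hn]
      apply Finset.card_lt_card
      rw [Finset.ssubset_iff_of_subset]
      · refine ⟨ng P j, ?_, ?_⟩
        · rw [Finset.mem_filter]
          exact ⟨Finset.mem_univ _, (reflectBase_isPos_iff_of_mem b hj _).2 (Or.inr rfl), hng⟩
        · rw [Finset.mem_filter]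
          rintro ⟨-, h1, -⟩
          exact ((isPos_ng_iff b j).1 h1) (b.isPos_of_mem_support hj)
      · intro i hi
        rw [Finset.mem_filter] at hi ⊢
        refine ⟨Finset.mem_univ _,
          (reflectBase_isPos_iff_of_mem b hj i).2 (Or.inl ⟨hi.2.1, ?_⟩), hi.2.2⟩
        rintro rfl; exact hjS hi.2.2
    exact absurd (hb _) (not_le.2 hlt)
  intro i hi
  exact hi.induction_on_add hsimple (fun i j k hk hi hj => hS.1 i j k hi (hsimple j hj) hk)

/-- every parabolic set of roots is the parabolic set of a facet -/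
theorem exists_facet_parab_eq {S : Set ι} (hS : IsParabolicSubset P S) :
    ∃ F : Facet P, F.parab = S := by
  obtain ⟨b, hb⟩ := exists_base_pos_subset hS
  obtain ⟨K, hK⟩ : ∃ K : Set ι, K = {j | ng P j ∉ S} := ⟨_, rfl⟩
  obtain ⟨y, hy⟩ : ∃ y : N, y = faceVec (P := P.flip) b.flip K := ⟨_, rfl⟩
  have hc_simple : ∀ j (hj : j ∈ b.support), P.root' j y = if j ∈ K then 1 else 0 := by
    intro j hj; rw [hy]; exact coroot'_faceVec (P := P.flip) b.flip K ⟨j, hj⟩
  have hc_simple0 : ∀ j (hj : j ∈ b.support), ng P j ∈ S → P.root' j y = 0 := by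
    intro j hj hng
    rw [hc_simple j hj, if_neg]
    rw [hK]; intro h; exact h hng
  have hc_simple1 : ∀ j (hj : j ∈ b.support), P.root' j y = 0 → ng P j ∈ S := by
    intro j hj h0
    rw [hc_simple j hj] at h0
    by_contra hng
    rw [if_pos (by rw [hK]; exact hng)] at h0
    exact one_ne_zero h0
  have hc_add : ∀ i j k, P.root k = P.root i + P.root j →
      P.root' k y = P.root' i y + P.root' j y := by
    intro i j k h
    unfold RootPairing.root'
    rw [h, map_add, LinearMap.add_apply]
  have hc_pos : ∀ i, b.IsPos i → 0 ≤ P.root' i y := by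
    intro i hi
    rw [hy]
    exact coroot'_nonneg_of_isPos (P := P.flip) b.flip
      (faceVec_mem_closedChamber (P := P.flip) b.flip K) ((flip_isPos_iff b i).2 hi)
  have hA : ∀ i, b.IsPos i → (b.IsPos i ∧ (ng P i ∈ S → P.root' i y = 0)) := by
    intro i hi
    refine hi.induction_on_add (p := fun i => b.IsPos i ∧ (ng P i ∈ S → P.root' i y = 0)) ?_ ?_
    · intro j hj
      exact ⟨b.isPos_of_mem_support hj, hc_simple0 j hj⟩
    · rintro i j k hk ⟨hipos, hi⟩ hj
      have hjpos := b.isPos_of_mem_support hj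
      refine ⟨hipos.add hjpos hk, fun hng => ?_⟩
      have hngi : ng P i ∈ S := hS.1 (ng P k) j (ng P i) hng (hb j hjpos)
        (by rw [root_ng, root_ng, hk]; abel)
      have hngj : ng P j ∈ S := hS.1 (ng P k) i (ng P j) hng (hb i hipos)
        (by rw [root_ng, root_ng, hk]; abel)
      rw [hc_add i j k hk, hi hngi, hc_simple0 j hj hngj, add_zero]
  have hB : ∀ i, b.IsPos i → (b.IsPos i ∧ (P.root' i y = 0 → ng P i ∈ S)) := by
    intro i hi
    refine hi.induction_on_add (p := fun i => b.IsPos i ∧ (P.root' i y = 0 → ng P i ∈ S)) ?_ ?_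
    · intro j hj
      exact ⟨b.isPos_of_mem_support hj, hc_simple1 j hj⟩
    · rintro i j k hk ⟨hipos, hi⟩ hj
      have hjpos := b.isPos_of_mem_support hj
      refine ⟨hipos.add hjpos hk, fun h0 => ?_⟩
      rw [hc_add i j k hk] at h0
      have h1 := hc_pos i hipos
      have h2 := hc_pos j hjpos
      have hi0 : P.root' i y = 0 := by linarith
      have hj0 : P.root' j y = 0 := by linarith
      exact hS.1 (ng P i) (ng P j) (ng P k) (hi hi0) (hc_simple1 j hj hj0)
        (by rw [root_ng, root_ng, root_ng, hk]; abel)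
  refine ⟨Facet.ofCovec y, ?_⟩
  ext i
  rw [mem_parab_iff, Facet.ofCovec_sgn, cosgnVec_apply, Ne, sign_eq_neg_one_iff, not_lt]
  by_cases hi : b.IsPos i
  · exact ⟨fun _ => hb i hi, fun _ => hc_pos i hi⟩
  · have hi' : b.IsPos (ng P i) := (isPos_ng_iff b i).2 hi
    have hci : P.root' (ng P i) y = - P.root' i y := root'_ng P i y
    constructor
    · intro h0
      have h1 := hc_pos _ hi'
      have h2 : P.root' (ng P i) y = 0 := by linarith
      have h3 := (hB _ hi').2 h2
      rwa [ng_ng] at h3
    · intro hiS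
      have h3 := (hA _ hi').2 (by rwa [ng_ng])
      linarith

/-- S14236 -/
theorem isParabolicSubset_iff_existsUnique_parab_eq :
    (∀ S : Set ι, IsParabolicSubset P S ↔ ∃! F : Facet P, F.parab = S) ∧
      ∀ F G : Facet P, F ≤ G ↔ F.parab ⊆ G.parab := by
  refine ⟨fun S => ⟨fun hS => ?_, ?_⟩, le_iff_parab_subset⟩
  · obtain ⟨F, hF⟩ := exists_facet_parab_eq hS
    exact ⟨F, hF, fun G hG => eq_of_parab_eq (hG.trans hF.symm)⟩
  · rintro ⟨F, rfl, -⟩
    exact isParabolicSubset_parab F

lemma eq_of_corners_eq {F G : Facet P} (h : G.corners = F.corners) : G = F := by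
  have hc : G.carrier = F.carrier := by
    rw [carrier_eq_setOf_pos_comb_corners, carrier_eq_setOf_pos_comb_corners, h]
  obtain ⟨ξ, hξ⟩ := G.exists_sgnVec_eq
  have h1 : ξ ∈ G.carrier := hξ
  rw [hc] at h1
  apply Facet.ext
  rw [← hξ]; exact h1

/-- S14235 -/
theorem existsUnique_facet_corners_eq_of_isParabolicSubset {S : Set ι}
    (hS : IsParabolicSubset P S) :
    ∃ F : Facet P,
      (F.corners = {m : M | m ∈ fundWeights P ∧
          ∀ y : N, Corr P m y → ∀ i ∈ S, 0 ≤ P.root' i y} ∧ F.parab = S) ∧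
      ∀ G : Facet P,
        G.corners = {m : M | m ∈ fundWeights P ∧
          ∀ y : N, Corr P m y → ∀ i ∈ S, 0 ≤ P.root' i y} → G = F := by
  obtain ⟨F, hF⟩ := exists_facet_parab_eq hS
  have hcor := corners_eq_setOf_nonneg_on_parab F
  rw [hF] at hcor
  exact ⟨F, ⟨hcor, hF⟩, fun G hG => eq_of_corners_eq (hG.trans hcor.symm)⟩

end Ordered
end Groth.Agent.H71.RC
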