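import Groth.Agent.H71.RootCh.Basic

/-!
# RootCh: reflecting a base in a root, dominance, uniqueness of the chamber
-/

set_option autoImplicit false
set_option linter.unusedSectionVars false
set_option linter.unusedSimpArgs false

noncomputable section

open Module
open scoped Classical

namespace Groth.Agent.H71.RC

universe u v w x

variable {ι : Type u} {R : Type v} {M : Type w} {N : Type x}

section General

variable [CommRing R] [AddCommGroup M] [Module R M] [AddCommGroup N] [Module R N]
variable {P : RootPairing ι R M N}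

lemma root_comp_reflectionPerm (j : ι) :
    (fun i => P.root (P.reflectionPerm j i)) = fun i => P.reflection j (P.root i) := by
  funext i
  exact P.root_reflectionPerm j i

lemma linearIndepOn_root_reflect (b : P.Base) (j : ι) :
    LinearIndepOn R P.root ((P.reflectionPerm j) '' (b.support : Set ι)) := by
  rw [linearIndepOn_iff_image (f := P.root) (P.root.injective.injOn)] 
  rw [← Set.image_comp]
  have : (⇑P.root ∘ ⇑(P.reflectionPerm j)) = (P.reflection j) ∘ P.root := by
    funext i; exact P.root_reflectionPerm j i
  rw [this, Set.image_comp]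
  have h0 := b.linearIndepOn_root
  rw [linearIndepOn_iff_image (f := P.root) (P.root.injective.injOn)] at h0
  exact h0.image (f := (P.reflection j).toLinearMap) (by simp)

lemma root_mem_or_neg_mem_reflect (b : P.Base) (j i : ι) :
    P.root i ∈ AddSubmonoid.closure (P.root '' ((P.reflectionPerm j) '' (b.support : Set ι))) ∨
      -P.root i ∈ AddSubmonoid.closure (P.root '' ((P.reflectionPerm j) '' (b.support : Set ι))) := by
  have himg : P.root '' ((P.reflectionPerm j) '' (b.support : Set ι)) =
      (P.reflection j) '' (P.root '' (b.support : Set ι)) := by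
    rw [← Set.image_comp, ← Set.image_comp]
    congr 1
    funext i; exact P.root_reflectionPerm j i
  have hcl : AddSubmonoid.closure (P.root '' ((P.reflectionPerm j) '' (b.support : Set ι))) =
      (AddSubmonoid.closure (P.root '' (b.support : Set ι))).map
        ((P.reflection j).toLinearMap.toAddMonoidHom) := by
    rw [himg, AddMonoidHom.map_mclosure]
    rfl
  rw [hcl]
  have hi : P.root i = P.reflection j (P.root (P.reflectionPerm j i)) := by
    rw [← P.root_reflectionPerm, P.reflectionPerm_self]
  rcases b.root_mem_or_neg_mem (P.reflectionPerm j i) with h | h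
  · left
    exact ⟨_, h, hi.symm⟩
  · right
    refine ⟨_, h, ?_⟩
    change P.reflection j (-P.root (P.reflectionPerm j i)) = _
    rw [map_neg, ← hi]

/-- the base obtained by reflecting all simple roots in the root `j` -/
def reflectBase (b : P.Base) (j : ι) : P.Base where
  support := b.support.image (P.reflectionPerm j)
  linearIndepOn_root := by
    rw [Finset.coe_image]; exact linearIndepOn_root_reflect b j
  linearIndepOn_coroot := by
    rw [Finset.coe_image]; exact linearIndepOn_root_reflect (P := P.flip) b.flip j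
  root_mem_or_neg_mem i := by
    rw [Finset.coe_image]; exact root_mem_or_neg_mem_reflect b j i
  coroot_mem_or_neg_mem i := by
    rw [Finset.coe_image]; exact root_mem_or_neg_mem_reflect (P := P.flip) b.flip j i

lemma mem_reflectBase_support (b : P.Base) (j i : ι) :
    i ∈ (reflectBase b j).support ↔ P.reflectionPerm j i ∈ b.support := by
  unfold reflectBase
  simp only [Finset.mem_image]
  constructor
  · rintro ⟨k, hk, rfl⟩
    rwa [P.reflectionPerm_self]
  · intro h
    exact ⟨_, h, P.reflectionPerm_self j i⟩

end General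

section Ordered

variable [Field R] [LinearOrder R] [IsStrictOrderedRing R]
variable [AddCommGroup M] [Module R M] [AddCommGroup N] [Module R N]
variable {P : RootPairing ι R M N} [P.IsRootSystem]
variable [Finite ι] [P.IsCrystallographic] [P.IsReduced]

open RootCh

lemma isPos_of_nat_comb (b : P.Base) {i : ι} (f : ι → ℕ)
    (hf : P.root i = ∑ j ∈ b.support, f j • P.root j) : b.IsPos i := by
  have h2 : P.root i = ∑ j ∈ b.support, (fun j => (f j : ℤ)) j • P.root j := by
    rw [hf]
    refine Finset.sum_congr rfl fun j _ => ?_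
    simp
  have h3 := RootPairing.Base.height_eq_sum h2
  rw [RootPairing.Base.isPos_iff', h3]
  exact Finset.sum_nonneg fun j _ => by simp

lemma reflectBase_isPos_of (b : P.Base) (j i : ι) (h : b.IsPos (P.reflectionPerm j i)) :
    (reflectBase b j).IsPos i := by
  obtain ⟨f, -, hf⟩ := exists_nat_root_of_isPos b h
  apply isPos_of_nat_comb (reflectBase b j) (fun k => f (P.reflectionPerm j k))
  have hi : P.root i = P.reflection j (P.root (P.reflectionPerm j i)) := by
    rw [← P.root_reflectionPerm, P.reflectionPerm_self]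
  rw [hi, hf, map_sum]
  unfold reflectBase
  simp only
  rw [Finset.sum_image (fun x _ y _ hxy => (P.reflectionPerm j).injective hxy)]
  refine Finset.sum_congr rfl fun k _ => ?_
  rw [map_nsmul, P.reflectionPerm_self, P.root_reflectionPerm]

lemma reflectionPerm_ng (j i : ι) : P.reflectionPerm j (ng P i) = ng P (P.reflectionPerm j i) := by
  apply P.root.injective
  rw [P.root_reflectionPerm, root_ng, root_ng, P.root_reflectionPerm, map_neg]

lemma reflectBase_isPos_iff (b : P.Base) (j i : ι) :
    (reflectBase b j).IsPos i ↔ b.IsPos (P.reflectionPerm j i) := by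
  refine ⟨fun h => ?_, reflectBase_isPos_of b j i⟩
  by_contra hn
  have h1 : b.IsPos (ng P (P.reflectionPerm j i)) := (isPos_ng_iff b _).2 hn
  rw [← reflectionPerm_ng] at h1
  have h2 := reflectBase_isPos_of b j _ h1
  exact (isPos_ng_iff _ i).1 h2 h

lemma ng_ne (i : ι) : ng P i ≠ i := by
  intro h
  have h1 : P.root (ng P i) = P.root i := by rw [h]
  rw [root_ng] at h1
  have h2 : (2 : R) • P.root i = 0 := by
    rw [two_smul]; nth_rewrite 1 [← h1]; simp
  have := P.ne_zero i
  rcases smul_eq_zero.1 h2 with h3 | h3
  · exact two_ne_zero h3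
  · exact this h3

lemma reflectBase_isPos_iff_of_mem (b : P.Base) {j : ι} (hj : j ∈ b.support) (i : ι) :
    (reflectBase b j).IsPos i ↔ (b.IsPos i ∧ i ≠ j) ∨ i = ng P j := by
  rw [reflectBase_isPos_iff]
  by_cases hij : i = j
  · subst hij
    have : P.reflectionPerm i i = ng P i := rfl
    rw [this, isPos_ng_iff]
    have h1 := b.isPos_of_mem_support hj
    have h2 := (ng_ne (P := P) i).symm
    simp [h1, h2]
  by_cases hij' : i = ng P j
  · subst hij'
    have : P.reflectionPerm j (ng P j) = j := by
      unfold ng; exact P.reflectionPerm_self j j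
    rw [this]
    have h1 := b.isPos_of_mem_support hj
    simp [h1]
  rw [isPos_reflectionPerm_iff b hj hij hij']
  simp [hij, hij']

lemma base_ext {b b' : P.Base} (h : b.support = b'.support) : b = b' := by
  cases b; cases b'; simp only at h; subst h; rfl

lemma mem_support_iff (b : P.Base) (i : ι) :
    i ∈ b.support ↔ b.IsPos i ∧
      ∀ j k, b.IsPos j → b.IsPos k → P.root i ≠ P.root j + P.root k := by
  constructor
  · intro hi
    refine ⟨b.isPos_of_mem_support hi, fun j k hj hk h => ?_⟩
    have h1 := b.height_add h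
    rw [RootPairing.Base.height_one_of_mem_support hi] at h1
    rw [RootPairing.Base.isPos_iff] at hj hk
    omega
  · rintro ⟨hpos, hind⟩
    obtain ⟨j, hj, hj'⟩ := hpos.exists_mem_support_pos_pairingIn
    rw [P.zero_lt_pairingIn_iff'] at hj'
    rcases eq_or_ne i j with rfl | hij
    · exact hj
    exfalso
    obtain ⟨k, hk⟩ := P.root_sub_root_mem_of_pairingIn_pos hj' hij
    have hkpos : b.IsPos k := hpos.sub hj hk
    exact hind k j hkpos (b.isPos_of_mem_support hj) (by rw [hk]; abel)

lemma eq_of_isPos_iff {b b' : P.Base} (h : ∀ i, b.IsPos i ↔ b'.IsPos i) : b = b' := by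
  apply base_ext
  ext i
  rw [mem_support_iff, mem_support_iff, h i]
  constructor
  · rintro ⟨h1, h2⟩
    exact ⟨h1, fun j k hj hk => h2 j k ((h j).2 hj) ((h k).2 hk)⟩
  · rintro ⟨h1, h2⟩
    exact ⟨h1, fun j k hj hk => h2 j k ((h j).1 hj) ((h k).1 hk)⟩

lemma eq_of_isPos_imp {b b' : P.Base} (h : ∀ i, b.IsPos i → b'.IsPos i) : b = b' := by
  apply eq_of_isPos_iff
  intro i
  refine ⟨h i, fun hi => ?_⟩
  by_contra hn
  have := h _ ((isPos_ng_iff b i).2 hn)
  exact (isPos_ng_iff b' i).1 this hi

/-- a regular vector lies in the closed chamber of at most one base -/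
lemma eq_of_mem_openChamber_of_mem_closedChamber {b b' : P.Base} {ξ : M}
    (h : ξ ∈ openChamber b) (h' : ξ ∈ closedChamber b') : b' = b := by
  apply eq_of_isPos_imp
  intro i hi
  have h1 := coroot'_nonneg_of_isPos b' h' hi
  by_contra hn
  have h2 := coroot'_pos_of_isPos b h ((isPos_ng_iff b i).2 hn)
  rw [coroot'_ng] at h2
  linarith

/-- general dominance lemma: in a nonempty family of bases stable under reflection in the simple
roots lying in `T`, some base has all its simple coroots in `T` non-negative on `ξ` -/
lemma exists_dominant_in (𝒞 : Set P.Base) (h𝒞 : 𝒞.Nonempty) (T : Set ι)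
    (hT : ∀ b ∈ 𝒞, ∀ j ∈ b.support, j ∈ T → reflectBase b j ∈ 𝒞) (ξ : M) :
    ∃ b ∈ 𝒞, ∀ j ∈ b.support, j ∈ T → 0 ≤ P.coroot' j ξ := by
  have : Fintype ι := Fintype.ofFinite ι
  let n : P.Base → ℕ := fun b =>
    (Finset.univ.filter (fun i => b.IsPos i ∧ P.coroot' i ξ < 0)).card
  let b := Function.argminOn n 𝒞 h𝒞
  have hb : b ∈ 𝒞 := Function.argminOn_mem n 𝒞 h𝒞
  have hmin : ∀ b' ∈ 𝒞, n b ≤ n b' := fun b' hb' => Function.argminOn_le n 𝒞 hb'
  refine ⟨b, hb, ?_⟩
  by_contra hcon
  push Not at hcon
  obtain ⟨j, hj, hjT, hcj⟩ := hcon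
  have hb' := hT b hb j hj hjT
  have hlt : n (reflectBase b j) < n b := by
    have hsub : (Finset.univ.filter (fun i => (reflectBase b j).IsPos i ∧ P.coroot' i ξ < 0)) ⊆
        (Finset.univ.filter (fun i => b.IsPos i ∧ P.coroot' i ξ < 0)).erase j := by
      intro i hi
      rw [Finset.mem_filter] at hi
      obtain ⟨-, hpos, hci⟩ := hi
      rw [reflectBase_isPos_iff_of_mem b hj] at hpos
      rcases hpos with ⟨h1, h2⟩ | h1
      · rw [Finset.mem_erase, Finset.mem_filter]
        exact ⟨h2, Finset.mem_univ _, h1, hci⟩
      · exfalso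
        subst h1
        rw [coroot'_ng] at hci
        linarith
    have hjmem : j ∈ (Finset.univ.filter (fun i => b.IsPos i ∧ P.coroot' i ξ < 0)) := by
      rw [Finset.mem_filter]
      exact ⟨Finset.mem_univ _, b.isPos_of_mem_support hj, hcj⟩
    calc n (reflectBase b j) ≤ ((Finset.univ.filter (fun i => b.IsPos i ∧ P.coroot' i ξ < 0)).erase j).card :=
          Finset.card_le_card hsub
      _ < n b := Finset.card_erase_lt_of_mem hjmem
  exact absurd (hmin _ hb') (not_le.2 hlt)

variable (P) in
/-- every vector lies in the closed chamber of some base -/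
lemma exists_base_mem_closedChamber (ξ : M) : ∃ b : P.Base, ξ ∈ closedChamber b := by
  obtain ⟨b₀⟩ := P.nonempty_base
  obtain ⟨b, -, hb⟩ := exists_dominant_in (P := P) Set.univ ⟨b₀, trivial⟩ Set.univ
    (fun _ _ _ _ _ => trivial) ξ
  exact ⟨b, fun j hj => hb j hj trivial⟩

end Ordered
end Groth.Agent.H71.RC
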