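import Groth.Agent.H71.RootCh.DualSolid

/-!
# RootCh: semi-stability criteria
-/

set_option autoImplicit false
set_option linter.unusedSectionVars false
set_option linter.unusedSimpArgs false
noncomputable section
open Module
open scoped Classical
namespace Groth.Agent.H71.RC
universe u v w x
variable {ι : Type u} {R : Type v} {M : Type w} {N : Type x}

section Ordered

variable [Field R] [LinearOrder R] [IsStrictOrderedRing R]
variable [AddCommGroup M] [Module R M] [AddCommGroup N] [Module R N]
variable {P : RootPairing ι R M N} [P.IsRootSystem]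
variable [Finite ι] [P.IsCrystallographic] [P.IsReduced]

open RootCh

lemma origin_sgn (i : ι) : (Facet.origin P).sgn i = 0 := by
  show sgnVec P 0 i = 0
  rw [sgnVec_apply, map_zero, sign_zero]

lemma mem_cham_origin (b : P.Base) : b ∈ (Facet.origin P).cham := by
  rw [mem_cham_iff]
  intro j _
  rw [origin_sgn]; decide

lemma corners_origin : (Facet.origin P).corners = ∅ := by
  obtain ⟨b⟩ := P.nonempty_base
  rw [corners_eq_of_mem_cham _ (mem_cham_origin b)]
  ext w
  simp [origin_sgn]

lemma solid_eq_dualSolid_origin (d : P.Base → N) : solid d = dualSolid d (Facet.origin P) := by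
  unfold solid dualSolid
  congr 1
  ext x
  constructor
  · rintro ⟨b, rfl⟩; exact ⟨b, mem_cham_origin b, rfl⟩
  · rintro ⟨b, -, rfl⟩; exact ⟨b, rfl⟩

/-- the solid is the intersection of the closed half-spaces of all fundamental weights -/
theorem mem_solid_iff {d : P.Base → N} (hd : IsCCS d) (y : N) :
    y ∈ solid d ↔ ∀ b : P.Base, ∀ m ∈ baseCorners b, P.toLinearMap m (d b) ≤ P.toLinearMap m y := by
  rw [solid_eq_dualSolid_origin, dualSolid_eq hd, corners_origin]
  simp only [Set.mem_empty_iff_false, Set.iInter_of_empty, Set.iInter_univ, Set.univ_inter,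
    Set.mem_iInter]
  constructor
  · intro h b m hm
    have hm' : m ∈ (Facet.origin P).corners' := by
      simp only [Facet.corners', Set.mem_iUnion]
      exact ⟨b, mem_cham_origin b, hm⟩
    exact h m hm' b hm
  · intro h m _ b hm
    exact h b m hm

/-- S14241 -/
theorem forall_corner_pairing_nonpos_iff_isSemistable {d : P.Base → N} (hd : IsCCS d) :
    (∀ (b : P.Base), ∀ m ∈ baseCorners b, P.toLinearMap m (d b) ≤ 0) ↔ IsSemistable d := by
  unfold IsSemistable
  rw [mem_solid_iff hd]
  simp only [map_zero]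

/-- the degree of a facet is a non-negative combination of the values of the corners -/
lemma deg_eq_sum (d : P.Base → N) (F : Facet P) {b : P.Base} (hb : b ∈ F.cham) :
    ∃ c : b.support → R, (∀ k, 0 ≤ c k) ∧ (∀ k : b.support, F.sgn k ≠ 0 → 0 < c k) ∧
      (∀ k : b.support, F.sgn k = 0 → c k = 0) ∧
      F.deg d b = ∑ k, c k * P.toLinearMap (fundWeight b k) (d b) := by
  set S := ∑ i ∈ (Set.toFinite F.parab).toFinset, P.root i with hS
  have hSF : S ∈ F.carrier := sum_root_parab_mem_carrier F
  refine ⟨fun k => P.coroot' k S, fun k => hb hSF k k.2,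
    fun k hk => coroot'_pos_of_sgn_ne_zero F hb hSF k.2 hk,
    fun k hk => coroot'_eq_zero_of_sgn_eq_zero F hSF hk, ?_⟩
  rw [deg_eq_pairing]
  show P.toLinearMap S (d b) = _
  conv_lhs => rw [eq_sum_coroot'_smul_fundWeight b S]
  rw [map_sum, LinearMap.sum_apply]
  refine Finset.sum_congr rfl fun k _ => ?_
  rw [map_smul, LinearMap.smul_apply, smul_eq_mul]

lemma deg_nonpos_of_isSemistable {d : P.Base → N} (hd : IsCCS d) (hss : IsSemistable d)
    (F : Facet P) {b : P.Base} (hb : b ∈ F.cham) : F.deg d b ≤ 0 := by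
  rw [← forall_corner_pairing_nonpos_iff_isSemistable hd] at hss
  obtain ⟨c, hc0, -, -, hdeg⟩ := deg_eq_sum d F hb
  rw [hdeg]
  refine Finset.sum_nonpos fun k _ => ?_
  apply mul_nonpos_of_nonneg_of_nonpos (hc0 k)
  apply hss b
  rw [baseCorners_eq]; exact ⟨k, rfl⟩

lemma dim_face_singleton (b : P.Base) (k : b.support) : (face b {(k : ι)}).dim = 1 := by
  unfold Facet.dim
  rw [span_carrier_eq_span_corners, corners_face]
  have : {w | ∃ k' : b.support, (k' : ι) ∈ ({(k : ι)} : Set ι) ∧ fundWeight b k' = w} =
      {fundWeight b k} := by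
    ext w
    constructor
    · rintro ⟨k', hk', rfl⟩
      have : k' = k := Subtype.ext hk'
      rw [this]; rfl
    · rintro rfl
      exact ⟨k, rfl, rfl⟩
  rw [this]
  exact finrank_span_singleton (fundWeight_ne_zero b k)

lemma pairing_nonpos_of_deg_nonpos {d : P.Base → N}
    (h : ∀ (F : Facet P) (b : P.Base), F.dim = 1 → b ∈ F.cham → F.deg d b ≤ 0)
    (b : P.Base) {m : M} (hm : m ∈ baseCorners b) : P.toLinearMap m (d b) ≤ 0 := by
  rw [baseCorners_eq] at hm
  obtain ⟨k, rfl⟩ := hm
  set F := face b {(k : ι)} with hF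
  have hb : b ∈ F.cham := mem_cham_face b _
  have hdeg := h F b (dim_face_singleton b k) hb
  obtain ⟨c, -, hcpos, hczero, hsum⟩ := deg_eq_sum d F hb
  rw [hsum, Finset.sum_eq_single_of_mem k (Finset.mem_univ _)] at hdeg
  · have hk : F.sgn k ≠ 0 := by
      rw [face_sgn b _ k.2]; simp
    have h1 := hcpos k hk
    by_contra hn
    push Not at hn
    have h2 := mul_pos h1 hn
    linarith
  · intro j _ hj
    have : F.sgn j = 0 := by
      rw [face_sgn b _ j.2, if_neg]
      intro h
      exact hj (Subtype.ext h)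
    rw [hczero j this, zero_mul]

/-- S14240 -/
theorem forall_deg_nonpos_of_dim_one_iff_isSemistable {d : P.Base → N} (hd : IsCCS d) :
    (∀ (F : Facet P) (b : P.Base), F.dim = 1 → b ∈ F.cham → F.deg d b ≤ 0) ↔
      IsSemistable d := by
  constructor
  · intro h
    rw [← forall_corner_pairing_nonpos_iff_isSemistable hd]
    intro b m hm
    exact pairing_nonpos_of_deg_nonpos h b hm
  · intro hss F b _ hb
    exact deg_nonpos_of_isSemistable hd hss F hb

/-- S14239 -/
theorem forall_deg_nonpos_iff_isSemistable {d : P.Base → N} (hd : IsCCS d) :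
    (∀ (F : Facet P) (b : P.Base), b ∈ F.cham → F.deg d b ≤ 0) ↔ IsSemistable d := by
  constructor
  · intro h
    rw [← forall_deg_nonpos_of_dim_one_iff_isSemistable hd]
    intro F b _ hb
    exact h F b hb
  · intro hss F b hb
    exact deg_nonpos_of_isSemistable hd hss F hb

end Ordered
end Groth.Agent.H71.RC
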