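import Groth.Agent.H71.RootCh.Parab

/-!
# RootCh: complementary convex solids: degrees, galleries, the dual solid
-/

set_option autoImplicit false
set_option linter.unusedSectionVars false
set_option linter.unusedSimpArgs false
noncomputable section
open Module
open scoped Classical
namespace Groth.Agent.H71.RC
universe u v w x
variable {ι : Type u} {R : Type v} {M : Type w} {N : Type x}

section Ordered

variable [Field R] [LinearOrder R] [IsStrictOrderedRing R]
variable [AddCommGroup M] [Module R M] [AddCommGroup N] [Module R N]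
variable {P : RootPairing ι R M N} [P.IsRootSystem]
variable [Finite ι] [P.IsCrystallographic] [P.IsReduced]

open RootCh

lemma corners_subset_baseCorners (F : Facet P) {b : P.Base} (hb : b ∈ F.cham) :
    F.corners ⊆ baseCorners b := by
  rintro m ⟨hm1, hm2⟩
  exact ⟨hm1, ((mem_closure_iff_of_mem_cham F hb m).1 hm2).1⟩

/-- (B1) extended to the span of the corners of a facet -/
lemma pairing_eq_of_mem_span_corners {d : P.Base → N} (hd : IsCCS d) (F : Facet P)
    {b b' : P.Base} (hb : b ∈ F.cham) (hb' : b' ∈ F.cham) {ξ : M}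
    (hξ : ξ ∈ Submodule.span R F.corners) :
    P.toLinearMap ξ (d b) = P.toLinearMap ξ (d b') := by
  induction hξ using Submodule.span_induction with
  | mem m hm =>
    exact hd.corner_eq b b' m (corners_subset_baseCorners F hb hm)
      (corners_subset_baseCorners F hb' hm)
  | zero => simp
  | add x y _ _ hx hy => rw [map_add, LinearMap.add_apply, LinearMap.add_apply, hx, hy]
  | smul a x _ hx => rw [map_smul, LinearMap.smul_apply, LinearMap.smul_apply, hx]

lemma deg_eq_pairing (d : P.Base → N) (F : Facet P) (b : P.Base) :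
    F.deg d b = P.toLinearMap (∑ i ∈ (Set.toFinite F.parab).toFinset, P.root i) (d b) := by
  unfold Facet.deg
  rw [map_sum, LinearMap.sum_apply]

lemma numInv_eq_pairing (d : P.Base → N) (F : Facet P) (m : M) (b : P.Base) :
    F.numInv d m b = P.toLinearMap (∑ i ∈ (Set.toFinite (F.Psi m)).toFinset, P.root i) (d b) := by
  unfold Facet.numInv
  rw [map_sum, LinearMap.sum_apply]

lemma sum_root_parab_mem_span_corners (F : Facet P) :
    (∑ i ∈ (Set.toFinite F.parab).toFinset, P.root i) ∈ Submodule.span R F.corners := by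
  rw [← span_carrier_eq_span_corners]
  exact Submodule.subset_span (sum_root_parab_mem_carrier F)

/-- S14249 -/
theorem deg_eq_deg_of_mem_cham {d : P.Base → N} (hd : IsCCS d) (F : Facet P)
    {b b' : P.Base} (hb : b ∈ F.cham) (hb' : b' ∈ F.cham) : F.deg d b = F.deg d b' := by
  rw [deg_eq_pairing, deg_eq_pairing]
  exact pairing_eq_of_mem_span_corners hd F hb hb' (sum_root_parab_mem_span_corners F)

/-- S14250 -/
theorem numInv_eq_numInv_of_mem_cham {d : P.Base → N} (hd : IsCCS d) (F : Facet P) (m : M)
    (hm : m ∈ F.corners) {b b' : P.Base} (hb : b ∈ F.cham) (hb' : b' ∈ F.cham) :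
    F.numInv d m b = F.numInv d m b' := by
  rw [numInv_eq_pairing, numInv_eq_pairing]
  exact pairing_eq_of_mem_span_corners hd F hb hb' (sum_root_psi_mem_span_corners F m hm)

end Ordered
section Ordered2

variable [Field R] [LinearOrder R] [IsStrictOrderedRing R]
variable [AddCommGroup M] [Module R M] [AddCommGroup N] [Module R N]
variable {P : RootPairing ι R M N} [P.IsRootSystem]
variable [Finite ι] [P.IsCrystallographic] [P.IsReduced]

open RootCh

/-- membership in the closed chamber of a reflected base -/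
lemma mem_closedChamber_reflectBase (b : P.Base) (β : ι) (ξ : M) :
    ξ ∈ closedChamber (reflectBase b β) ↔
      ∀ l ∈ b.support, 0 ≤ P.coroot' l ξ - P.pairing β l * P.coroot' β ξ := by
  constructor
  · intro h l hl
    have := h (P.reflectionPerm β l) (by
      rw [mem_reflectBase_support, P.reflectionPerm_self]; exact hl)
    rwa [coroot'_reflectionPerm_apply] at this
  · intro h l hl
    rw [mem_reflectBase_support] at hl
    have := h _ hl
    rw [← coroot'_reflectionPerm_apply, P.reflectionPerm_self] at this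
    exact this

lemma fundWeight_mem_closedChamber_reflectBase (b : P.Base) {β : ι} (hβ : β ∈ b.support)
    (k : b.support) (hk : (k : ι) ≠ β) : fundWeight b k ∈ closedChamber (reflectBase b β) := by
  rw [mem_closedChamber_reflectBase]
  intro l hl
  have h1 : P.coroot' β (fundWeight b k) = 0 := by
    rw [coroot'_fundWeight b k ⟨β, hβ⟩, if_neg]
    intro h; apply hk; rw [← h]
  rw [h1, mul_zero, sub_zero, coroot'_fundWeight b k ⟨l, hl⟩]
  split_ifs <;> simp

lemma fundWeight_notMem_closedChamber_reflectBase (b : P.Base) {β : ι} (hβ : β ∈ b.support) :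
    fundWeight b ⟨β, hβ⟩ ∉ closedChamber (reflectBase b β) := by
  rw [mem_closedChamber_reflectBase]
  intro h
  have := h β hβ
  rw [coroot'_fundWeight_self b ⟨β, hβ⟩, P.pairing_same] at this
  linarith

lemma baseCorners_inter_reflectBase (b : P.Base) {β : ι} (hβ : β ∈ b.support) :
    baseCorners b ∩ baseCorners (reflectBase b β) =
      (fundWeight b) '' {k : b.support | (k : ι) ≠ β} := by
  ext w
  constructor
  · rintro ⟨h1, h2⟩
    rw [baseCorners_eq] at h1
    obtain ⟨k, rfl⟩ := h1
    refine ⟨k, ?_, rfl⟩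
    intro hk
    have : k = ⟨β, hβ⟩ := Subtype.ext hk
    rw [this] at h2
    exact fundWeight_notMem_closedChamber_reflectBase b hβ h2.2
  · rintro ⟨k, hk, rfl⟩
    refine ⟨?_, ⟨b, k, rfl⟩, fundWeight_mem_closedChamber_reflectBase b hβ k hk⟩
    rw [baseCorners_eq]; exact ⟨k, rfl⟩

lemma ncard_baseCorners_inter_reflectBase (b : P.Base) {β : ι} (hβ : β ∈ b.support) :
    (baseCorners b ∩ baseCorners (reflectBase b β)).ncard + 1 = b.support.card := by
  rw [baseCorners_inter_reflectBase b hβ, Set.ncard_image_of_injective _ (fundWeight_injective b)]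
  have h1 : {k : b.support | (k : ι) ≠ β} = Set.univ \ {⟨β, hβ⟩} := by
    ext k
    simp only [Set.mem_sdiff, Set.mem_univ, Set.mem_singleton_iff, true_and]
    constructor
    · intro h h2; apply h; rw [h2]
    · intro h h2; apply h; exact Subtype.ext h2
  rw [h1, Set.ncard_sdiff_singleton_of_mem (Set.mem_univ _), Set.ncard_univ,
    Nat.card_eq_fintype_card, Fintype.card_coe]
  have : 0 < b.support.card := Finset.card_pos.2 ⟨β, hβ⟩
  omega

/-- consequence of (B1) and (B2) for two chambers adjacent along the wall of a simple root -/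
lemma exists_nonneg_smul_coroot {d : P.Base → N} (hd : IsCCS d) (b : P.Base) {β : ι}
    (hβ : β ∈ b.support) :
    ∃ t : R, 0 ≤ t ∧ d (reflectBase b β) - d b = t • P.coroot β := by
  set b' := reflectBase b β with hb'
  -- (B2)
  have hB2 : P.root' β (d b) ≤ P.root' β (d b') := by
    apply hd.wall_le b b' β (ncard_baseCorners_inter_reflectBase b hβ)
    intro j
    rw [reflectBase_isPos_iff_of_mem b hβ]
    constructor
    · rintro ⟨h1, h2⟩
      by_contra hne
      exact h2 (Or.inl ⟨h1, hne⟩)
    · rintro rfl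
      refine ⟨b.isPos_of_mem_support hβ, ?_⟩
      rintro (⟨-, h⟩ | h)
      · exact h rfl
      · exact ng_ne (P := P) j h.symm
  -- (B1)
  have hB1 : ∀ k : b.support, (k : ι) ≠ β →
      P.toLinearMap (fundWeight b k) (d b') = P.toLinearMap (fundWeight b k) (d b) := by
    intro k hk
    have hmem : fundWeight b k ∈ baseCorners b ∩ baseCorners b' := by
      rw [baseCorners_inter_reflectBase b hβ]; exact ⟨k, hk, rfl⟩
    exact hd.corner_eq b' b _ hmem.2 hmem.1
  set t := P.toLinearMap (fundWeight b ⟨β, hβ⟩) (d b' - d b) with ht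
  have hexp : d b' - d b = t • P.coroot β := by
    have e := eq_sum_pairing_fundWeight_smul_coroot b (d b' - d b)
    rw [Finset.sum_eq_single_of_mem (⟨β, hβ⟩ : b.support) (Finset.mem_univ _)] at e
    · exact e
    · intro k _ hk
      have hk' : (k : ι) ≠ β := fun h => hk (Subtype.ext h)
      rw [map_sub, hB1 k hk', sub_self, zero_smul]
  refine ⟨t, ?_, hexp⟩
  have h2 : P.root' β (d b' - d b) = 2 * t := by
    rw [hexp, map_smul, smul_eq_mul]
    have : P.root' β (P.coroot β) = 2 := P.root_coroot_two β
    rw [this]; ring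
  rw [map_sub] at h2
  linarith

lemma exists_ne_zero_of_nat_comb (b : P.Base) {i : ι} (f : ι → ℕ)
    (hf : P.root i = ∑ j ∈ b.support, f j • P.root j) : ∃ j ∈ b.support, f j ≠ 0 := by
  by_contra hcon
  push Not at hcon
  apply P.ne_zero i
  rw [hf]
  exact Finset.sum_eq_zero fun j hj => by rw [hcon j hj, zero_smul]

/-- if all simple roots of `b'` are positive for `b₀` then the two bases coincide -/
lemma eq_of_support_isPos {b₀ b' : P.Base} (h : ∀ j ∈ b'.support, b₀.IsPos j) : b' = b₀ := by
  apply eq_of_isPos_imp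
  intro i hi
  obtain ⟨f, -, hf⟩ := exists_nat_root_of_isPos b' hi
  rw [isPos_iff_root'_rhoCheck]
  unfold RootPairing.root'
  rw [hf, map_sum, LinearMap.sum_apply]
  obtain ⟨j₀, hj₀, hfj₀⟩ := exists_ne_zero_of_nat_comb b' f hf
  refine Finset.sum_pos' (fun j hj => ?_) ⟨j₀, hj₀, ?_⟩
  · rw [map_nsmul, LinearMap.smul_apply]
    exact nsmul_nonneg ((isPos_iff_root'_rhoCheck b₀ j).1 (h j hj)).le _
  · rw [map_nsmul, LinearMap.smul_apply]
    exact nsmul_pos ((isPos_iff_root'_rhoCheck b₀ j₀).1 (h j₀ hj₀)) hfj₀

/-- the gallery lemma: the value of a corner of `b₀` on `d` is minimal at `b₀` -/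
theorem pairing_le_of_mem_baseCorners {d : P.Base → N} (hd : IsCCS d) (b₀ : P.Base) {m : M}
    (hm : m ∈ baseCorners b₀) (b' : P.Base) :
    P.toLinearMap m (d b₀) ≤ P.toLinearMap m (d b') := by
  have : Fintype ι := Fintype.ofFinite ι
  suffices H : ∀ (n : ℕ) (b' : P.Base),
      (Finset.univ.filter (fun i => b₀.IsPos i ∧ ¬ b'.IsPos i)).card = n →
      P.toLinearMap m (d b₀) ≤ P.toLinearMap m (d b') from H _ b' rfl
  intro n
  induction n using Nat.strong_induction_on with
  | _ n ih =>
    intro b' hn
    by_cases hex : ∀ j ∈ b'.support, b₀.IsPos j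
    · rw [eq_of_support_isPos hex]
    push Not at hex
    obtain ⟨β, hβ, hβneg⟩ := hex
    set b'' := reflectBase b' β with hb''
    have hsub : (Finset.univ.filter (fun i => b₀.IsPos i ∧ ¬ b''.IsPos i)) ⊆
        (Finset.univ.filter (fun i => b₀.IsPos i ∧ ¬ b'.IsPos i)).erase (ng P β) := by
      intro i hi
      rw [Finset.mem_filter] at hi
      obtain ⟨-, h1, h2⟩ := hi
      rw [reflectBase_isPos_iff_of_mem b' hβ] at h2
      push Not at h2
      rw [Finset.mem_erase, Finset.mem_filter]
      refine ⟨h2.2, Finset.mem_univ _, h1, fun h3 => ?_⟩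
      have := h2.1 h3
      rw [this] at h1
      exact hβneg h1
    have hmem : ng P β ∈ (Finset.univ.filter (fun i => b₀.IsPos i ∧ ¬ b'.IsPos i)) := by
      rw [Finset.mem_filter]
      refine ⟨Finset.mem_univ _, (isPos_ng_iff b₀ β).2 hβneg, ?_⟩
      rw [isPos_ng_iff]
      exact fun h => h (b'.isPos_of_mem_support hβ)
    have hlt : (Finset.univ.filter (fun i => b₀.IsPos i ∧ ¬ b''.IsPos i)).card < n := by
      calc _ ≤ ((Finset.univ.filter (fun i => b₀.IsPos i ∧ ¬ b'.IsPos i)).erase (ng P β)).card :=
            Finset.card_le_card hsub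
        _ < _ := Finset.card_erase_lt_of_mem hmem
        _ = n := hn
    have h1 := ih _ hlt b'' rfl
    obtain ⟨t, ht, hexp⟩ := exists_nonneg_smul_coroot hd b' hβ
    have h2 : P.toLinearMap m (d b'') - P.toLinearMap m (d b') = t * P.coroot' β m := by
      rw [← map_sub, hexp, map_smul, smul_eq_mul]; rfl
    have h3 : P.coroot' β m ≤ 0 := by
      have := coroot'_nonneg_of_isPos b₀ hm.2 ((isPos_ng_iff b₀ β).2 hβneg)
      rw [coroot'_ng] at this
      linarith
    have h4 : t * P.coroot' β m ≤ 0 := mul_nonpos_of_nonneg_of_nonpos ht h3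
    linarith

end Ordered2
end Groth.Agent.H71.RC
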