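import Groth.Agent.H71.RootCh.Semistable

/-!
# RootCh: special facets
-/

set_option autoImplicit false
set_option linter.unusedSectionVars false
set_option linter.unusedSimpArgs false
noncomputable section
open Module
open scoped Classical
namespace Groth.Agent.H71.RC
universe u v w x
variable {ι : Type u} {R : Type v} {M : Type w} {N : Type x}

section Ordered

variable [Field R] [LinearOrder R] [IsStrictOrderedRing R]
variable [AddCommGroup M] [Module R M] [AddCommGroup N] [Module R N]
variable {P : RootPairing ι R M N} [P.IsRootSystem]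
variable [Finite ι] [P.IsCrystallographic] [P.IsReduced]

open RootCh

/-- (a) membership in the dual facet through an adjacent chamber -/
lemma mem_dualCarrier_iff_of_mem_cham (F : Facet P) {b : P.Base} (hb : b ∈ F.cham) (y : N) :
    y ∈ F.dualCarrier ↔ ∀ j ∈ b.support, cosgnVec P y j = F.sgn j := by
  rw [← Facet.dual_carrier]
  exact mem_carrier_iff_of_mem_cham (P := P.flip) (Facet.dual F) ((flip_mem_cham_dual F b).2 hb) y

lemma dualCarrier_nonempty (F : Facet P) : F.dualCarrier.Nonempty :=
  (Facet.dual F).exists_sgnVec_eq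

lemma root'_eq_zero_of_mem_dualCarrier (F : Facet P) {y : N} (hy : y ∈ F.dualCarrier) {j : ι}
    (hj : F.sgn j = 0) : P.root' j y = 0 := by
  have h1 : cosgnVec P y = F.sgn := hy
  have : cosgnVec P y j = 0 := by rw [h1, hj]
  exact sign_eq_zero_iff.1 this

/-- (b) the span of the dual facet -/
lemma mem_span_dualCarrier_iff (F : Facet P) {b : P.Base} (hb : b ∈ F.cham) (y : N) :
    y ∈ Submodule.span R F.dualCarrier ↔ ∀ j ∈ b.support, F.sgn j = 0 → P.root' j y = 0 := by
  constructor
  · intro hy j _ hj0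
    induction hy using Submodule.span_induction with
    | mem x hx => exact root'_eq_zero_of_mem_dualCarrier F hx hj0
    | zero => simp
    | add x y _ _ hx hy => rw [map_add, hx, hy, add_zero]
    | smul a x _ hx => rw [map_smul, hx, smul_zero]
  · intro h
    rw [← Facet.dual_carrier, span_carrier_eq_span_corners (P := P.flip) (Facet.dual F),
      Facet.dual_corners, dualCorners_eq_of_mem_cham F hb]
    rw [eq_sum_root'_smul_fundCoweight b y]
    refine Submodule.sum_mem _ fun k _ => ?_
    by_cases hk : F.sgn k = 0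
    · rw [h k k.2 hk, zero_smul]; exact Submodule.zero_mem _
    · exact Submodule.smul_mem _ _ (Submodule.subset_span ⟨k, hk, rfl⟩)

lemma corootForm_self_eq_zero_iff [Fintype ι] (z : N) : P.CorootForm z z = 0 ↔ z = 0 := by
  constructor
  · intro h
    rw [P.corootForm_apply_apply] at h
    rw [Finset.sum_eq_zero_iff_of_nonneg (fun i _ => mul_self_nonneg _)] at h
    obtain ⟨b⟩ := P.nonempty_base
    apply ext_of_root' b
    intro i
    rw [map_zero]
    exact mul_self_eq_zero.1 (h i (Finset.mem_univ _))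
  · rintro rfl; simp

lemma coroot'_coPolarization [Fintype ι] (z : N) (i : ι) :
    P.coroot' i (P.CoPolarization z) =
      (P.CorootForm (P.coroot i) (P.coroot i) / 2) * P.root' i z :=
  root'_polarization (P := P.flip) z i

/-- (c) a vector of the span of the dual facet orthogonal to all the corners vanishes -/
lemma eq_zero_of_mem_span_dualCarrier_of_pairing_eq_zero (F : Facet P) {z : N}
    (hz : z ∈ Submodule.span R F.dualCarrier)
    (h : ∀ m ∈ F.corners, P.toLinearMap m z = 0) : z = 0 := by
  have : Fintype ι := Fintype.ofFinite ι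
  obtain ⟨b, hb⟩ := Facet.cham_nonempty F
  rw [mem_span_dualCarrier_iff F hb] at hz
  rw [← corootForm_self_eq_zero_iff (P := P)]
  have h1 : P.CorootForm z z = P.toLinearMap (P.CoPolarization z) z := by
    rw [P.toLinearMap_apply_CoPolarization]
  rw [h1, eq_sum_coroot'_smul_fundWeight b (P.CoPolarization z), map_sum, LinearMap.sum_apply]
  refine Finset.sum_eq_zero fun k _ => ?_
  rw [map_smul, LinearMap.smul_apply, smul_eq_mul]
  by_cases hk : F.sgn k = 0
  · rw [coroot'_coPolarization, hz k k.2 hk, mul_zero, zero_mul]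
  · have : fundWeight b k ∈ F.corners := by
      rw [corners_eq_of_mem_cham F hb]; exact ⟨k, hk, rfl⟩
    rw [h _ this, mul_zero]

lemma yLocus_subsingleton (d : P.Base → N) (F : Facet P) : (yLocus d F).Subsingleton := by
  rintro y ⟨hy1, hy2⟩ y' ⟨hy1', hy2'⟩
  simp only [Set.mem_iInter] at hy1 hy1'
  obtain ⟨b, hb⟩ := Facet.cham_nonempty F
  have hz : y - y' ∈ Submodule.span R F.dualCarrier := Submodule.sub_mem _ hy2 hy2'
  have := eq_zero_of_mem_span_dualCarrier_of_pairing_eq_zero F hz (fun m hm => by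
    have hmb := corners_subset_baseCorners F hb hm
    rw [map_sub, hy1 m hm b hmb, hy1' m hm b hmb, sub_self])
  exact sub_eq_zero.1 this

lemma dualCarrier_inter_dualSolid_subset_yLocus {d : P.Base → N} (hd : IsCCS d) (F : Facet P) :
    F.dualCarrier ∩ dualSolid d F ⊆ yLocus d F := by
  rintro y ⟨hy1, hy2⟩
  rw [dualSolid_eq hd] at hy2
  exact ⟨hy2.1, Submodule.subset_span hy1⟩

/-- S14251 -/
theorem exists_yLocus_eq_and_inter_eq {d : P.Base → N} (hd : IsCCS d) (F : Facet P)
    (hF : IsSpecial d F) :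
    ∃ y₀ : N, yLocus d F = {y₀} ∧ F.dualCarrier ∩ dualSolid d F = {y₀} := by
  obtain ⟨y₀, hy₀⟩ := hF
  have hy₀' := dualCarrier_inter_dualSolid_subset_yLocus hd F hy₀
  refine ⟨y₀, ?_, ?_⟩
  · ext y
    constructor
    · intro hy; exact yLocus_subsingleton d F hy hy₀'
    · rintro rfl; exact hy₀'
  · ext y
    constructor
    · intro hy
      exact yLocus_subsingleton d F (dualCarrier_inter_dualSolid_subset_yLocus hd F hy) hy₀'
    · rintro rfl; exact hy₀

end Ordered
section Ordered2

variable [Field R] [LinearOrder R] [IsStrictOrderedRing R]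
variable [AddCommGroup M] [Module R M] [AddCommGroup N] [Module R N]
variable {P : RootPairing ι R M N} [P.IsRootSystem]
variable [Finite ι] [P.IsCrystallographic] [P.IsReduced]

open RootCh

/-- a point of all the hyperplanes of the corners of `F` pairs with the span of the corners like
the values of `d` at the adjacent chambers -/
lemma pairing_eq_of_mem_span_corners_of_mem_hyper {d : P.Base → N} (F : Facet P)
    {b : P.Base} (hb : b ∈ F.cham) {y : N} (hy : y ∈ ⋂ m ∈ F.corners, hyper d m) {ξ : M}
    (hξ : ξ ∈ Submodule.span R F.corners) :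
    P.toLinearMap ξ y = P.toLinearMap ξ (d b) := by
  simp only [Set.mem_iInter] at hy
  induction hξ using Submodule.span_induction with
  | mem m hm => exact hy m hm b (corners_subset_baseCorners F hb hm)
  | zero => simp
  | add x y _ _ hx hy => rw [map_add, LinearMap.add_apply, LinearMap.add_apply, hx, hy]
  | smul a x _ hx => rw [map_smul, LinearMap.smul_apply, LinearMap.smul_apply, hx]

lemma root'_eq_of_mem_Psi (F : Facet P) {b : P.Base} (hb : b ∈ F.cham) (k : b.support) {i : ι}
    (hi : i ∈ F.Psi (fundWeight b k)) {y : N} (hy : y ∈ Submodule.span R F.dualCarrier) :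
    P.root' i y = P.root' k y := by
  rw [mem_span_dualCarrier_iff F hb] at hy
  rw [mem_Psi_iff F hb] at hi
  conv_lhs => rw [eq_sum_root'_smul_fundCoweight b y]
  rw [map_sum, Finset.sum_eq_single_of_mem k (Finset.mem_univ _)]
  · rw [map_smul, hi.1, smul_eq_mul, mul_one]
  · intro l _ hl
    rw [map_smul, smul_eq_mul]
    by_cases hl0 : F.sgn l = 0
    · rw [hy l l.2 hl0, zero_mul]
    · rw [hi.2 l hl0 hl, mul_zero]

lemma mem_Psi_self (F : Facet P) {b : P.Base} (hb : b ∈ F.cham) (k : b.support) :
    (k : ι) ∈ F.Psi (fundWeight b k) := by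
  rw [mem_Psi_iff F hb]
  refine ⟨?_, fun k' _ hne => ?_⟩
  · rw [root'_fundCoweight b k k, if_pos rfl]
  · rw [root'_fundCoweight b k' k, if_neg (Ne.symm hne)]

lemma numInv_eq_card_mul {d : P.Base → N} (F : Facet P) {b : P.Base} (hb : b ∈ F.cham)
    (k : b.support) (hk : F.sgn k ≠ 0) {y : N} (hy1 : y ∈ ⋂ m ∈ F.corners, hyper d m)
    (hy2 : y ∈ Submodule.span R F.dualCarrier) :
    F.numInv d (fundWeight b k) b =
      ((Set.toFinite (F.Psi (fundWeight b k))).toFinset.card : R) * P.root' k y := by
  have hm : fundWeight b k ∈ F.corners := by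
    rw [corners_eq_of_mem_cham F hb]; exact ⟨k, hk, rfl⟩
  rw [numInv_eq_pairing,
    ← pairing_eq_of_mem_span_corners_of_mem_hyper F hb hy1 (sum_root_psi_mem_span_corners F _ hm),
    map_sum, LinearMap.sum_apply]
  rw [Finset.sum_congr rfl (g := fun _ => P.root' k y)]
  · rw [Finset.sum_const, nsmul_eq_mul]
  · intro i hi
    rw [Set.Finite.mem_toFinset] at hi
    exact root'_eq_of_mem_Psi F hb k hi hy2

lemma card_Psi_pos (F : Facet P) {b : P.Base} (hb : b ∈ F.cham) (k : b.support) :
    (0 : R) < ((Set.toFinite (F.Psi (fundWeight b k))).toFinset.card : R) := by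
  have : 0 < (Set.toFinite (F.Psi (fundWeight b k))).toFinset.card := by
    rw [Finset.card_pos]
    exact ⟨k, by rw [Set.Finite.mem_toFinset]; exact mem_Psi_self F hb k⟩
  exact_mod_cast this

/-- S14243 -/
theorem numInv_pos_and_meets_span_iff_isSpecial {d : P.Base → N} (hd : IsCCS d) (F : Facet P) :
    ((∀ m ∈ F.corners, ∀ b ∈ F.cham, 0 < F.numInv d m b) ∧
        (dualSolid d F ∩ (Submodule.span R F.dualCarrier : Set N)).Nonempty) ↔
      IsSpecial d F := by
  constructor
  · rintro ⟨h1, ⟨y, hy1, hy2⟩⟩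
    refine ⟨y, ?_, hy1⟩
    obtain ⟨b, hb⟩ := Facet.cham_nonempty F
    have hyh : y ∈ ⋂ m ∈ F.corners, hyper d m := by
      rw [dualSolid_eq hd] at hy1; exact hy1.1
    rw [mem_dualCarrier_iff_of_mem_cham F hb]
    intro j hj
    rw [cosgnVec_apply]
    by_cases hj0 : F.sgn j = 0
    · rw [hj0, sign_eq_zero_iff]
      exact (mem_span_dualCarrier_iff F hb y).1 hy2 j hj hj0
    · rw [sgn_eq_one_of_ne_zero F hb hj hj0, sign_eq_one_iff]
      have hm : fundWeight b ⟨j, hj⟩ ∈ F.corners := by
        rw [corners_eq_of_mem_cham F hb]; exact ⟨⟨j, hj⟩, hj0, rfl⟩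
      have hpos := h1 _ hm b hb
      rw [numInv_eq_card_mul F hb ⟨j, hj⟩ hj0 hyh hy2] at hpos
      exact (mul_pos_iff_of_pos_left (card_Psi_pos F hb ⟨j, hj⟩)).1 hpos
  · rintro ⟨y, hy1, hy2⟩
    have hyh : y ∈ ⋂ m ∈ F.corners, hyper d m := by
      rw [dualSolid_eq hd] at hy2; exact hy2.1
    have hys : y ∈ Submodule.span R F.dualCarrier := Submodule.subset_span hy1
    refine ⟨fun m hm b hb => ?_, ⟨y, hy2, hys⟩⟩
    rw [corners_eq_of_mem_cham F hb] at hm
    obtain ⟨k, hk, rfl⟩ := hm
    rw [numInv_eq_card_mul F hb k hk hyh hys]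
    apply mul_pos (card_Psi_pos F hb k)
    have := (mem_dualCarrier_iff_of_mem_cham F hb y).1 hy1 k k.2
    rw [sgn_eq_one_of_ne_zero F hb k.2 hk, cosgnVec_apply, sign_eq_one_iff] at this
    exact this

end Ordered2
end Groth.Agent.H71.RC
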