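import Groth.Agent.H71.RootCh.MaxDeg
import Groth.Agent.H71.RootCh.MinNormExists

set_option autoImplicit false
set_option linter.unusedSectionVars false
set_option linter.unusedSimpArgs false
noncomputable section
open Module
open scoped Classical
namespace Groth.Agent.H71.RC
universe u v w x
variable {ι : Type u} {R : Type v} {M : Type w} {N : Type x}

section Ordered

variable [Field R] [LinearOrder R] [IsStrictOrderedRing R]
variable [AddCommGroup M] [Module R M] [AddCommGroup N] [Module R N]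
variable {P : RootPairing ι R M N} [P.IsRootSystem]
variable [Finite ι] [P.IsCrystallographic] [P.IsReduced]

open RootCh

/-- S14246 -/
theorem existsUnique_isSpecial {d : P.Base → N} (hd : IsCCS d) :
    ∃! F : Facet P, IsSpecial d F := by
  have : Fintype ι := Fintype.ofFinite ι
  obtain ⟨B, hB⟩ : ∃ B : LinearMap.BilinForm R N, B = P.CorootForm := ⟨_, rfl⟩
  have hBs : ∀ y z : N, B y z = B z y := by
    intro y z
    rw [hB, P.corootForm_apply_apply, P.corootForm_apply_apply]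
    simp only [mul_comm]
  have hBp : ∀ y : N, y ≠ 0 → 0 < B y y := by
    intro y hy
    have h0 : 0 ≤ B y y := by
      rw [hB, P.corootForm_apply_apply]
      exact Finset.sum_nonneg fun i _ => mul_self_nonneg _
    refine lt_of_le_of_ne h0 (fun h => hy ?_)
    rw [hB] at h
    exact (corootForm_self_eq_zero_iff y).1 h.symm
  have hBi : ∀ (i : ι) (y z : N), B (P.coreflection i y) (P.coreflection i z) = B y z := by
    intro i y z
    rw [hB]
    exact P.flip.rootForm_reflection_reflection_apply i y z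
  obtain ⟨b₀⟩ := P.nonempty_base
  have : Nonempty P.Base := ⟨b₀⟩
  obtain ⟨y₀, hy₀, hmin⟩ := exists_min_form_on_convexHull_range B hBs hBp d
  have hy₀' : y₀ ∈ solid d := hy₀
  have hmin' : ∀ y ∈ solid d, B y₀ y₀ ≤ B y y := hmin
  obtain ⟨F₀, hF₀⟩ : ∃ F₀ : Facet P, F₀.sgn = cosgnVec P y₀ :=
    ⟨⟨cosgnVec P y₀, formVec (P := P) B y₀, sgnVec_formVec B hBp hBi y₀⟩, rfl⟩
  have hy₀F : y₀ ∈ F₀.dualCarrier := hF₀.symm
  have hsp := isSpecial_of_isMinOn_solid B hBs hBp hBi hd y₀ hy₀' hmin' F₀ hy₀F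
  refine ⟨F₀, hsp.1, ?_⟩
  intro F hF
  obtain ⟨y₁, hy₁, hy₁s, hstrict⟩ :=
    exists_yLocus_eq_and_isMinOn_solid_of_isSpecial B hBs hBp hBi hd F hF
  obtain ⟨y, hyc, hys⟩ := hF
  have hyl := dualCarrier_inter_dualSolid_subset_yLocus hd F ⟨hyc, hys⟩
  rw [hy₁] at hyl
  have hyy₁ : y = y₁ := hyl
  have hy₁y₀ : y₁ = y₀ := by
    by_contra hne
    have h1 := hstrict y₀ hy₀' (Ne.symm hne)
    have h2 := hmin' y₁ hy₁s
    exact absurd h1 (not_lt.2 h2)
  apply Facet.ext
  have h3 : cosgnVec P y = F.sgn := hyc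
  rw [← h3, hyy₁, hy₁y₀, hF₀]

/-- S14247 -/
theorem isSpecial_of_deg_max {d : P.Base → N} (hd : IsCCS d) (F : Facet P) {b : P.Base}
    (hb : b ∈ F.cham)
    (hmax : ∀ (G : Facet P) (c : P.Base), c ∈ G.cham → G.deg d c ≤ F.deg d b)
    (hmaxl : ∀ (G : Facet P) (c : P.Base), c ∈ G.cham → G.deg d c = F.deg d b → F ≤ G → G = F) :
    IsSpecial d F := by
  obtain ⟨F₀, hF₀, -⟩ := existsUnique_isSpecial hd
  obtain ⟨b₀, hb₀⟩ := Facet.cham_nonempty F₀
  obtain ⟨h1, h2⟩ := deg_le_and_le_of_isSpecial hd F₀ hb₀ hF₀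
  have heq : F.deg d b = F₀.deg d b₀ := le_antisymm (h1 F b hb) (hmax F₀ b₀ hb₀)
  have hle : F ≤ F₀ := h2 F b hb heq
  have := hmaxl F₀ b₀ hb₀ heq.symm hle
  rw [← this]; exact hF₀

end Ordered
end Groth.Agent.H71.RC
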